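import Cfsg.Agent.BenderWorld.R1Kill.Bad

/-!
# Every configuration gives `Kill`

Slice B of `docs/bender_route8_slices.md`, following `docs/bender_R1_residual_helper89.md`.
-/

set_option autoImplicit false

namespace CfsgLib.BenderWorld

open Subgroup CfsgLib.SEmbed

variable {G : Type*} [Group G] [Finite G] {Ω : Type*} [MulAction G Ω]

/-- A configuration at an odd prime gives a proper subgroup containing a pair stabilizer, moving
one of the points and having an involution at it, provided the moved cores of `IsR2` locals do. -/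
theorem kill_of_config (W : World G Ω)
    (hR2 : ∀ M : Subgroup G, M ≠ ⊤ → ∀ a : Ω, IsR2 M a → ∀ v ∈ M, v ∈ invMap (G := G) a a →
      (∃ o ∈ coreIn M, ¬ Commute o v) → Kill G Ω)
    {q : ℕ} (hq : q.Prime) (hq2 : q ≠ 2) {Q : Subgroup G} {v : G} {a : Ω}
    (hc : IsConfig q Q v a) : Kill G Ω := by
  by_contra hK
  have c : R1Kill.Ctx G Ω q := ⟨W, hR2, hK, hq, hq2⟩
  obtain ⟨A, w, y, d⟩ := c.exists_maxData hc
  by_cases h : ∃ g ∈ R1Kill.primeCoreIn q (centralizer (A : Set G)), g • y ≠ y
  · exact c.false_of_primeCore_moves d h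
  · push Not at h
    exact c.false_of_primeCore_fixes d h

/-- No configurations, once the moved cores and `Kill` are excluded. -/
theorem noConfig (W : World G Ω)
    (hR2 : ∀ M : Subgroup G, M ≠ ⊤ → ∀ a : Ω, IsR2 M a → ∀ v ∈ M, v ∈ invMap (G := G) a a →
      (∃ o ∈ coreIn M, ¬ Commute o v) → Kill G Ω)
    (hK : ¬ Kill G Ω) : NoConfig G Ω :=
  fun _ hq hq2 _ _ _ hc => hK (kill_of_config W hR2 hq hq2 hc)

end CfsgLib.BenderWorld
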