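import Cfsg.Agent.BenderUse.Degree

/-!
# Split strongly embedded subgroups

`Split H`: a normal 2-subgroup of `H` is transitive on the other cosets.  If this holds for the
simple groups of order less than `n`, it holds modulo the odd core for every group of order less
than `n`, with the involutions of `H` central in the 2-subgroup.
-/

set_option autoImplicit false
set_option linter.style.haveILetI false

namespace CfsgLib.BenderWorld

open CfsgLib.SEmbed CfsgLib.Small CfsgLib.BenderUse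

universe u

/-- A normal 2-subgroup of `H` is transitive on the cosets other than `H`. -/
def Split {G : Type*} [Group G] (H : Subgroup G) : Prop :=
  ∃ Q : Subgroup G, Q ≤ H ∧ IsPGroup 2 Q ∧ (Q.subgroupOf H).Normal ∧
    ∀ g₁ g₂ : G, g₁ ∉ H → g₂ ∉ H → ∃ u ∈ Q, g₂⁻¹ * (u * g₁) ∈ H

/-- The inductive hypothesis: simple groups of order less than `n` split. -/
def SplitHyp (n : ℕ) : Prop :=
  ∀ (G : Type u) [Group G] [Finite G] [IsSimpleGroup G], Nat.card G < n →
    ∀ H : Subgroup G, Cfsg.IsStronglyEmbedded H → Split H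

theorem SplitHyp.mono {m n : ℕ} (h : SplitHyp.{u} n) (hmn : m ≤ n) : SplitHyp.{u} m :=
  fun G _ _ _ hG => h G (lt_of_lt_of_le hG hmn)

variable {G : Type u} [Group G] [Finite G]

/-- A transitive 2-subgroup of `H` has order one less than the index. -/
theorem index_eq_of_transitive {H : Subgroup G} (hH : Cfsg.IsStronglyEmbedded H) {Q : Subgroup G}
    (hQ : IsPGroup 2 Q) (hQH : Q ≤ H)
    (htr : ∀ g₁ g₂ : G, g₁ ∉ H → g₂ ∉ H → ∃ u ∈ Q, g₂⁻¹ * (u * g₁) ∈ H) :
    H.index = Nat.card Q + 1 := by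
  classical
  obtain ⟨g₁, hg₁⟩ : ∃ g : G, g ∉ H := by
    by_contra h
    push Not at h
    exact hH.1 (top_unique fun g _ => h g)
  have hd := card_dvd_index_sub_one hH hQ hQH
  have h1 : 1 < H.index := by
    haveI := nontrivial_cosets hH
    rw [Subgroup.index_eq_card]; exact Finite.one_lt_card
  let f : ↥Q → {x : G ⧸ H // x ≠ ((1 : G) : G ⧸ H)} := fun u =>
    ⟨(((u : G) * g₁ : G) : G ⧸ H), fun he => hg₁ (by
      have h := H.inv_mem (QuotientGroup.eq.1 he)
      rw [mul_one, inv_inv] at h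
      simpa using H.mul_mem (H.inv_mem (hQH u.2)) h)⟩
  have hsurj : Function.Surjective f := fun x => by
    obtain ⟨x, hx⟩ := x
    obtain ⟨g₂, rfl⟩ := QuotientGroup.mk_surjective x
    obtain ⟨u, hu, hug⟩ := htr g₁ g₂ hg₁ fun hg => hx ((smul_mk_one H g₂).symm.trans
      ((smul_one_eq_iff H g₂).2 hg))
    exact ⟨⟨u, hu⟩, Subtype.ext (QuotientGroup.eq.2 hug).symm⟩
  have hle := Nat.card_le_card_of_surjective f hsurj
  have hcard : Nat.card {x : G ⧸ H // x ≠ ((1 : G) : G ⧸ H)} = H.index - 1 := by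
    haveI := Fintype.ofFinite (G ⧸ H)
    rw [Subgroup.index_eq_card]
    simp only [Nat.card_eq_fintype_card, Fintype.card_subtype_compl, Fintype.card_subtype_eq]
  rw [hcard] at hle
  have := Nat.le_of_dvd (by omega) hd
  omega

/-- A 2-subgroup as large as a Sylow subgroup, normal in `H`, contains every 2-subgroup of `H`. -/
theorem le_of_card_eq {Q : Subgroup G} (hQ : IsPGroup 2 Q) {S : Sylow 2 G}
    (hcard : Nat.card Q = Nat.card (S : Subgroup G)) {K : Subgroup G} (hK : IsPGroup 2 K)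
    (hnorm : K ≤ Subgroup.normalizer (Q : Set G)) : K ≤ Q := by
  haveI : Fact (Nat.Prime 2) := ⟨Nat.prime_two⟩
  obtain ⟨P, hP⟩ := (hK.to_sup_of_normal_right' hQ hnorm).exists_le_sylow
  have h1 : Nat.card ↥(K ⊔ Q) ≤ Nat.card (P : Subgroup G) :=
    Nat.card_le_card_of_injective _ (Subgroup.inclusion_injective hP)
  have h2 : Nat.card (P : Subgroup G) = Nat.card Q := by
    rw [hcard, Sylow.card_eq_multiplicity, Sylow.card_eq_multiplicity]
  exact le_sup_left.trans (Subgroup.eq_of_le_of_card_ge le_sup_right (h1.trans h2.le)).ge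

/-- In a group with trivial odd core all involutions generate a simple normal subgroup, on which
strong embedding induces. -/
theorem exists_simple_normal {H : Subgroup G} (hH : Cfsg.IsStronglyEmbedded H)
    (hO : Cfsg.oddCore G = ⊥) :
    ∃ L : Subgroup G, L.Normal ∧ IsSimpleGroup L ∧ Cfsg.IsStronglyEmbedded (H.subgroupOf L) ∧
      ∀ g : G, ∃ l ∈ L, l⁻¹ * g ∈ H := by
  haveI : Fact (Nat.Prime 2) := ⟨Nat.prime_two⟩
  have huf := uniqueFix hH
  haveI := nontrivial_cosets hH
  obtain ⟨t, htH, ht⟩ := exists_invol_mem hH.2.1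
  set L : Subgroup G := Subgroup.normalClosure {t} with hLdef
  have htL : t ∈ L := Subgroup.subset_normalClosure rfl
  have hall : ∀ s : G, orderOf s = 2 → s ∈ L := fun s hs => by
    obtain ⟨g, rfl⟩ := isConj_iff.1 (isConj_invol huf ht hs)
    exact Subgroup.normalClosure_normal.conj_mem t htL g
  have hmin : ∀ M : Subgroup G, M.Normal → M ≠ ⊥ → L ≤ M := fun M hM hM1 => by
    haveI := hM
    rcases Nat.even_or_odd (Nat.card M) with he | ho
    · obtain ⟨s, hsM, hs⟩ := exists_invol_mem he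
      refine Subgroup.normalClosure_le_normal (Set.singleton_subset_iff.2 ?_)
      obtain ⟨g, rfl⟩ := isConj_iff.1 (isConj_invol huf hs ht)
      exact hM.conj_mem s hsM g
    · exact absurd (le_bot_iff.1 (hO ▸ le_oddCore ho)) hM1
  have hLH : ¬ L ≤ H := fun hle => by
    obtain ⟨x, hx⟩ := exists_ne ((1 : G) : G ⧸ H)
    obtain ⟨g, rfl⟩ := QuotientGroup.mk_surjective x
    refine hx (huf.unique t ht _ _ ?_ ((smul_one_eq_iff H t).2 htH))
    rw [smul_mk_eq_iff]
    refine hle ?_
    simpa using (Subgroup.normalClosure_normal (s := {t})).conj_mem t htL g⁻¹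
  have hHL := subgroupOf_isStronglyEmbedded hH hLH htL htH ht
  have huL := uniqueFix hHL
  haveI := nontrivial_cosets hHL
  haveI : Nontrivial L := ⟨⟨⟨t, htL⟩, 1, fun he => by
    rw [Subtype.ext_iff] at he
    rw [show t = 1 from he, orderOf_one] at ht
    omega⟩⟩
  refine ⟨L, Subgroup.normalClosure_normal, ⟨fun M hM => ?_⟩, hHL, fun g => ?_⟩
  · haveI := hM
    rcases Nat.even_or_odd (Nat.card M) with he | ho
    · obtain ⟨s, hsM, hs⟩ := exists_invol_mem he
      refine Or.inr (top_unique fun x _ => ?_)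
      have hJ : ∀ r : L, orderOf r = 2 → r ∈ M := fun r hr => by
        obtain ⟨c, rfl⟩ := isConj_iff.1 (isConj_invol huL hs hr)
        exact hM.conj_mem s hsM c
      have : L ≤ M.map L.subtype := by
        have hn : (Subgroup.closure {r : G | orderOf r = 2}).Normal :=
          ⟨fun r hr c => by
            have hsub : {r : G | orderOf r = 2} ⊆ ((Subgroup.closure {r : G | orderOf r = 2}).comap
                (MulAut.conj c).toMonoidHom : Set G) := fun a ha => by
              simp only [Subgroup.coe_comap, Set.mem_preimage, MulEquiv.coe_toMonoidHom,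
                MulAut.conj_apply, SetLike.mem_coe]
              refine Subgroup.subset_closure ?_
              show orderOf (c * a * c⁻¹) = 2
              rw [orderOf_conj_eq]
              exact ha
            simpa using ((Subgroup.closure_le _).2 hsub hr)⟩
        refine (hmin _ hn fun he => ?_).trans ((Subgroup.closure_le _).2 fun r hr => ?_)
        · have : t ∈ Subgroup.closure {r : G | orderOf r = 2} := Subgroup.subset_closure ht
          rw [he, Subgroup.mem_bot] at this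
          rw [this, orderOf_one] at ht
          omega
        · exact ⟨⟨r, hall r hr⟩, hJ _ (by rw [← Subgroup.orderOf_coe]; exact hr), rfl⟩
      obtain ⟨y, hy, hyx⟩ := this x.2
      rwa [← Subtype.ext hyx]
    · have hc : Cfsg.oddCore L = ⊥ := by
        haveI : (Cfsg.oddCore L).Characteristic := CfsgLib.PLocal.pPrimeCoreCharacteristic 2 L
        rw [← (Subgroup.map_eq_bot_iff_of_injective _ L.subtype_injective), eq_bot_iff, ← hO]
        refine le_oddCore ?_
        rw [Subgroup.card_map_of_injective L.subtype_injective]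
        exact CfsgLib.TwoGroups.odd_card_oddCore
      exact Or.inl (le_bot_iff.1 (hc ▸ le_oddCore ho))
  · by_cases hg : g ∈ H
    · exact ⟨1, L.one_mem, by simpa using hg⟩
    obtain ⟨r, hr, hrg⟩ := huf.exists_inv ((g : G) : G ⧸ H)
    obtain ⟨i, hi, -⟩ := exists_interchange huf ht hr ((smul_one_eq_iff H t).2 htH) hrg
      (fun he => hg ((smul_one_eq_iff H g).1 (by rw [smul_mk_one, ← he])))
    exact ⟨i, hall i hi.1, QuotientGroup.eq.1 (by simpa [smul_mk_one] using hi.2)⟩

/-- With trivial odd core: the Sylow 2-subgroup of `H` is normal in `H`, regular off `H`, and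
contains all involutions of `H` in its centre. -/
theorem split_of_oddCore_eq_bot {n : ℕ} (hS : SplitHyp.{u} n) (hG : Nat.card G < n)
    {H : Subgroup G} (hH : Cfsg.IsStronglyEmbedded H) (hO : Cfsg.oddCore G = ⊥) :
    ∃ Q : Subgroup G, Q ≤ H ∧ IsPGroup 2 Q ∧ H ≤ Subgroup.normalizer (Q : Set G) ∧
      (∀ g₁ g₂ : G, g₁ ∉ H → g₂ ∉ H → ∃ u ∈ Q, g₂⁻¹ * (u * g₁) ∈ H) ∧
      H.index = Nat.card Q + 1 ∧
      (∀ g ∈ H, ∀ k : ℕ, g ^ 2 ^ k = 1 → g ∈ Q) ∧
      ∀ u ∈ Q, ∀ i ∈ Q, orderOf i = 2 → Commute u i := by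
  haveI : Fact (Nat.Prime 2) := ⟨Nat.prime_two⟩
  obtain ⟨L, hLn, hLs, hHL, hcov⟩ := exists_simple_normal hH hO
  obtain ⟨Q', hQ'H, hQ'p, hQ'n, htr'⟩ := hS L
    (lt_of_le_of_lt (Subgroup.card_le_card_group L) hG) _ hHL
  set Q := Q'.map L.subtype with hQdef
  have hQH : Q ≤ H := by
    rintro _ ⟨x, hx, rfl⟩
    exact hQ'H hx
  have hQp : IsPGroup 2 Q := hQ'p.map L.subtype
  have htr : ∀ g₁ g₂ : G, g₁ ∉ H → g₂ ∉ H → ∃ u ∈ Q, g₂⁻¹ * (u * g₁) ∈ H := by
    intro g₁ g₂ h₁ h₂
    obtain ⟨l₁, hl₁, e₁⟩ := hcov g₁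
    obtain ⟨l₂, hl₂, e₂⟩ := hcov g₂
    obtain ⟨u, hu, hug⟩ := htr' ⟨l₁, hl₁⟩ ⟨l₂, hl₂⟩
      (fun h => h₁ (by simpa using H.mul_mem (Subgroup.mem_subgroupOf.1 h) e₁))
      (fun h => h₂ (by simpa using H.mul_mem (Subgroup.mem_subgroupOf.1 h) e₂))
    refine ⟨u, ⟨u, hu, rfl⟩, ?_⟩
    have h3 : (l₂⁻¹ * ((u : G) * l₁)) ∈ H := by
      simpa [Subgroup.mem_subgroupOf] using hug
    have := H.mul_mem (H.mul_mem (H.inv_mem e₂) h3) e₁
    simpa [mul_assoc] using this
  have hidx := index_eq_of_transitive hH hQp hQH htr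
  obtain ⟨S, hSH⟩ := exists_sylow_le hH
  have hcard : Nat.card Q = Nat.card (S : Subgroup G) := by
    have h1 := card_dvd_index_sub_one hH S.2 hSH
    rw [hidx, Nat.add_sub_cancel] at h1
    refine le_antisymm ?_ (Nat.le_of_dvd Nat.card_pos h1)
    obtain ⟨P, hP⟩ := hQp.exists_le_sylow
    calc Nat.card Q ≤ Nat.card (P : Subgroup G) :=
          Nat.card_le_card_of_injective _ (Subgroup.inclusion_injective hP)
      _ = Nat.card (S : Subgroup G) := by rw [Sylow.card_eq_multiplicity, Sylow.card_eq_multiplicity]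
  have hnorm : H ≤ Subgroup.normalizer (Q : Set G) := fun h hh => by
    rw [Subgroup.mem_normalizer_iff_map_conj_eq]
    have hc : Q.map (MulAut.conj h).toMonoidHom ≤ Subgroup.normalizer (Q : Set G) := by
      rintro _ ⟨x, hx, rfl⟩
      obtain ⟨x, hx, rfl⟩ := hx
      -- the conjugate lies in `L ⊓ H`, which normalises `Q`
      have hxL : (MulAut.conj h).toMonoidHom (x : G) ∈ L := hLn.conj_mem _ x.2 h
      have hxH : (MulAut.conj h).toMonoidHom (x : G) ∈ H :=
        H.mul_mem (H.mul_mem hh (hQ'H hx)) (H.inv_mem hh)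
      have hN := (Subgroup.normal_subgroupOf_iff_le_normalizer hQ'H).1 hQ'n
        (x := ⟨_, hxL⟩) (Subgroup.mem_subgroupOf.2 hxH)
      rw [Subgroup.mem_normalizer_iff] at hN ⊢
      intro z
      constructor
      · rintro ⟨w, hw, rfl⟩
        exact ⟨_, (hN w).1 hw, rfl⟩
      · rintro ⟨w, hw, hwz⟩
        refine ⟨(⟨_, hxL⟩ : L)⁻¹ * w * ⟨_, hxL⟩, (hN _).2 (by simpa [mul_assoc] using hw), ?_⟩
        simp only [map_mul, map_inv, Subgroup.coe_subtype] at hwz ⊢
        rw [hwz]; group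
    refine Subgroup.eq_of_le_of_card_ge (le_of_card_eq hQp hcard (hQp.map _) hc) ?_
    exact (Subgroup.card_map_of_injective (f := (MulAut.conj h).toMonoidHom) (MulAut.conj h).injective).ge
  have h2el : ∀ g ∈ H, ∀ k : ℕ, g ^ 2 ^ k = 1 → g ∈ Q := fun g hg k hk =>
    le_of_card_eq hQp hcard (K := Subgroup.zpowers g) (by
      obtain ⟨j, -, hj⟩ := (Nat.dvd_prime_pow Nat.prime_two).1 (orderOf_dvd_of_pow_eq_one hk)
      exact IsPGroup.of_card (by rw [Nat.card_zpowers, hj]))
      (Subgroup.zpowers_le.2 (hnorm hg)) (Subgroup.mem_zpowers g)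
  refine ⟨Q, hQH, hQp, hnorm, htr, hidx, h2el, fun u hu i hi hio => ?_⟩
  haveI : Nontrivial Q := ⟨⟨i, hi⟩, 1, fun he => by
    have : i = 1 := congrArg Subtype.val he
    rw [this, orderOf_one] at hio
    omega⟩
  haveI := hQp.center_nontrivial
  obtain ⟨z, hz⟩ := exists_prime_orderOf_dvd_card' (G := Subgroup.center Q) 2 (by
    obtain ⟨k, hk⟩ := IsPGroup.iff_card.1 (hQp.to_subgroup (Subgroup.center Q))
    have := Finite.one_lt_card (α := Subgroup.center Q)
    rw [hk] at this ⊢
    rcases k with _ | k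
    · simp at this
    · exact dvd_pow_self 2 (by omega))
  have hzo : orderOf ((z : Q) : G) = 2 := by rw [Subgroup.orderOf_coe, Subgroup.orderOf_coe, hz]
  have huf := uniqueFix hH
  haveI := nontrivial_cosets hH
  obtain ⟨g, hg⟩ := isConj_iff.1 (isConj_invol huf hzo hio)
  have hgH : g ∈ H := (isStronglyEmbedded_iff hH.1 hH.2.1).1 hH _ (hQH hi) hio g
    (by rw [← hg]; simpa [mul_assoc] using hQH (z : Q).2)
  have hu' : g⁻¹ * u * g ∈ Q := by
    simpa using (Subgroup.mem_normalizer_iff.1 (hnorm (H.inv_mem hgH)) u).1 hu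
  have hc : Commute (g⁻¹ * u * g) ((z : Q) : G) :=
    congrArg Subtype.val (Subgroup.mem_center_iff.1 z.2 ⟨_, hu'⟩)
  have h := hc.map (MulAut.conj g).toMonoidHom
  simp only [MulEquiv.coe_toMonoidHom, MulAut.conj_apply, hg] at h
  simpa [mul_assoc] using h

end CfsgLib.BenderWorld
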