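import Cfsg.Agent.BenderWorld.Defs
import Cfsg.Agent.BenderWorld.Split
import Cfsg.Agent.S0225
import Cfsg.Agent.LocalEven50.Isolated

/-!
# What induction gives for the proper subgroups

`localIH`: if the simple groups of smaller order split, a proper subgroup moving a point at which
it has an involution is `IsR1` or `IsR2`.  `split_of_world`: it suffices to split a `World`.
`IsR1.exists_invariant_sylow`: in an R1 local an involution normalises a Sylow subgroup of the
stabilizer of its fixed point.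
-/

set_option autoImplicit false
set_option linter.style.haveILetI false

namespace CfsgLib.BenderWorld

open CfsgLib.SEmbed CfsgLib.Small CfsgLib.BenderUse

universe u v

/-- In a group with a normal odd subgroup modulo which an involution is central, every element is a
product of an element of it and one centralising the involution. -/
theorem exists_mul_commute {G : Type*} [Group G] {w : G} (hww : w * w = 1) {N : Subgroup G}
    (hodd : Odd (Nat.card N)) {g : G} (hg : w * g * w⁻¹ * g⁻¹ ∈ N) :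
    ∃ x ∈ N, Commute (x⁻¹ * g) w := by
  have hwi : w⁻¹ = w := inv_eq_of_mul_eq_one_right hww
  obtain ⟨c, hc⟩ : ∃ c, c = w * g * w⁻¹ * g⁻¹ := ⟨_, rfl⟩
  have hcN : c ∈ N := hc ▸ hg
  have hinv : w * c * w⁻¹ = c⁻¹ := by
    rw [hc, hwi, mul_inv_rev, mul_inv_rev, mul_inv_rev, inv_inv, hwi]
    calc w * (w * g * w * g⁻¹) * w = (w * w) * g * w * g⁻¹ * w := by group
      _ = g * (w * (g⁻¹ * w)) := by rw [hww, one_mul]; group
  obtain ⟨m, hm⟩ := hodd
  have hcm : c ^ (2 * m + 1) = 1 := by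
    rw [← hm]; exact congrArg Subtype.val (pow_card_eq_one' (x := (⟨c, hcN⟩ : N)))
  refine ⟨c ^ m, pow_mem hcN m, ?_⟩
  have h1 : w * (c ^ m)⁻¹ * w⁻¹ = c ^ m := by
    have h0 : w * c⁻¹ * w⁻¹ = c := by
      have := congrArg Inv.inv hinv
      simpa [mul_assoc] using this
    rw [← inv_pow, ← conj_pow, h0]
  symm
  show w * ((c ^ m)⁻¹ * g) = (c ^ m)⁻¹ * g * w
  calc w * ((c ^ m)⁻¹ * g) = w * (c ^ m)⁻¹ * w⁻¹ * (w * g * w⁻¹) * w := by group
    _ = c ^ m * (c * g) * w := by rw [h1, hc]; group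
    _ = (c ^ m)⁻¹ * (c ^ (2 * m + 1)) * g * w := by group
    _ = (c ^ m)⁻¹ * g * w := by rw [hcm, mul_one]

/-- An involution central modulo a normal subgroup of odd order normalises a Sylow subgroup. -/
theorem exists_invariant_sylow_of_central {G : Type u} [Group G] [Finite G] {w : G}
    (hw : orderOf w = 2) {W : Subgroup G} [W.Normal] (hodd : Odd (Nat.card W))
    (hcen : ∀ g : G, w * g * w⁻¹ * g⁻¹ ∈ W) (q : ℕ) [Fact q.Prime] :
    ∃ P : Sylow q G, w ∈ Subgroup.normalizer ((P : Subgroup G) : Set G) := by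
  haveI : Fact (Nat.Prime 2) := ⟨Nat.prime_two⟩
  have hww : w * w = 1 := mul_self_of_orderOf_two hw
  obtain ⟨T, hT⟩ := CfsgLib.LocalEven50.exists_invariant_sylow (p := 2) (x := w)
    (IsPGroup.of_card (n := 1) (by rw [Nat.card_zpowers, hw, pow_one])) W
    (Nat.coprime_two_right.2 hodd) q
  set T₀ : Subgroup G := (T : Subgroup W).map W.subtype
  set N₁ : Subgroup G := Subgroup.normalizer (T₀ : Set G)
  have hF : N₁ ⊔ W = ⊤ := T.normalizer_sup_eq_top
  -- the centraliser in `N₁` covers the quotient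
  set C : Subgroup G := N₁ ⊓ Subgroup.centralizer ({w} : Set G)
  set π := QuotientGroup.mk' W
  have hsurj : Function.Surjective (π.comp C.subtype) := by
    intro y
    obtain ⟨g, rfl⟩ := QuotientGroup.mk'_surjective W y
    obtain ⟨n, hn, o, ho, rfl⟩ := Subgroup.mem_sup_of_normal_right.1 (hF.ge (Subgroup.mem_top g))
    obtain ⟨x, hx, hc⟩ := exists_mul_commute hww (N := W ⊓ N₁)
      (hodd.of_dvd_nat (Subgroup.card_dvd_of_le inf_le_left))
      (g := n) ⟨hcen n, N₁.mul_mem (N₁.mul_mem (N₁.mul_mem hT hn) (N₁.inv_mem hT)) (N₁.inv_mem hn)⟩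
    refine ⟨⟨x⁻¹ * n, N₁.mul_mem (N₁.inv_mem hx.2) hn,
      Subgroup.mem_centralizer_singleton_iff.2 hc.eq⟩, ?_⟩
    show π (x⁻¹ * n) = π (n * o)
    have hπ : ∀ y ∈ W, π y = 1 := fun y hy => (QuotientGroup.eq_one_iff y).2 hy
    rw [map_mul, map_mul, map_inv, hπ x hx.1, hπ o ho]
    simp
  obtain ⟨X⟩ : Nonempty (Sylow q C) := inferInstance
  set X₀ : Subgroup G := (X : Subgroup C).map C.subtype
  have hX₀C : X₀ ≤ C := Subgroup.map_subtype_le _
  have hT₀p : IsPGroup q T₀ := T.2.map W.subtype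
  have hRp : IsPGroup q ↥(X₀ ⊔ T₀) :=
    (X.2.map C.subtype).to_sup_of_normal_right' hT₀p (hX₀C.trans inf_le_left)
  have hnorm : w ∈ Subgroup.normalizer ((X₀ ⊔ T₀ : Subgroup G) : Set G) := by
    rw [Subgroup.mem_normalizer_iff_map_conj_eq] at hT ⊢
    show Subgroup.map (MulAut.conj w).toMonoidHom (X₀ ⊔ T₀) = X₀ ⊔ T₀
    rw [Subgroup.map_sup]
    congr 1
    have hfix : ∀ y ∈ X₀, w * y * w⁻¹ = y := fun y hy => by
      rw [mul_inv_eq_iff_eq_mul]
      exact (Subgroup.mem_centralizer_singleton_iff.1 (hX₀C hy).2).symm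
    ext y
    constructor
    · rintro ⟨z, hz, rfl⟩
      show w * z * w⁻¹ ∈ X₀
      rwa [hfix z hz]
    · exact fun hy => ⟨y, hy, hfix y hy⟩
  obtain ⟨P, hP⟩ := hRp.exists_le_sylow
  have hle : Nat.card (P : Subgroup G) ≤ Nat.card ↥(X₀ ⊔ T₀) := by
    set R : Subgroup G := X₀ ⊔ T₀
    -- the image is a Sylow subgroup, and so is the intersection with `W`
    have h1 : Nat.card ((P : Subgroup G).map π) ≤ Nat.card (R.map π) := by
      have hs : (X.mapSurjective hsurj : Subgroup (G ⧸ W)) ≤ R.map π := by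
        rw [Sylow.coe_mapSurjective, ← Subgroup.map_map]
        exact Subgroup.map_mono le_sup_left
      calc Nat.card ((P : Subgroup G).map π)
          = Nat.card (P.mapSurjective (QuotientGroup.mk'_surjective W) : Subgroup (G ⧸ W)) := by
            rw [Sylow.coe_mapSurjective]
        _ = Nat.card (X.mapSurjective hsurj : Subgroup (G ⧸ W)) := by
            rw [Sylow.card_eq_multiplicity, Sylow.card_eq_multiplicity]
        _ ≤ Nat.card (R.map π) :=
            Nat.card_le_card_of_injective _ (Subgroup.inclusion_injective hs)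
    have h2 : (P : Subgroup G).subgroupOf W ≤ R.subgroupOf W := by
      have hT' : (T : Subgroup W) ≤ R.subgroupOf W := fun x hx =>
        Subgroup.mem_subgroupOf.2 ((le_sup_right : T₀ ≤ R) ⟨x, hx, rfl⟩)
      refine le_trans ?_ hT'
      refine (T.is_maximal' (P.2.comap_subtype (K := W)) ?_).le
      exact fun x hx => Subgroup.mem_subgroupOf.2 (hP ((le_sup_right : T₀ ≤ R) ⟨x, hx, rfl⟩))
    have hker : ∀ K : Subgroup G, Nat.card K = Nat.card (K.map π) * Nat.card (K.subgroupOf W) := by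
      intro K
      rw [← Subgroup.card_mul_index (W.subgroupOf K), mul_comm]
      congr 1
      · have hk : (π.comp K.subtype).ker = W.subgroupOf K := by
          ext x
          simp [π, Subgroup.mem_subgroupOf, MonoidHom.mem_ker]
        rw [← hk, Subgroup.index_ker, MonoidHom.range_comp, Subgroup.range_subtype]
      · refine Nat.card_congr ⟨fun x => ⟨⟨x.1.1, x.2⟩, x.1.2⟩, fun x => ⟨⟨x.1.1, x.2⟩, x.1.2⟩,
          fun x => rfl, fun x => rfl⟩
    rw [hker, hker R]
    exact Nat.mul_le_mul h1 (Nat.card_le_card_of_injective _ (Subgroup.inclusion_injective h2))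
  refine ⟨P, ?_⟩
  rwa [← Subgroup.eq_of_le_of_card_ge hP hle]

variable {G : Type u} [Group G] {Ω : Type v} [MulAction G Ω]

/-- An element of an R1 local fixing the point of `w` is a core element times a centraliser element,
both fixing the point. -/
theorem IsR1.exists_decomp [Finite G] (huf : UniqueFix G Ω) {M : Subgroup G} (hM : IsR1 M) {w : G}
    (hwM : w ∈ M) {x : Ω} (hw : w ∈ invMap (G := G) x x) {g : G} (hgM : g ∈ M) (hgx : g • x = x) :
    ∃ o ∈ coreIn M, ∃ c ∈ M, Commute c w ∧ c • x = x ∧ o • x = x ∧ g = o * c := by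
  obtain ⟨o, ho, c, hc, hcw, rfl⟩ := hM w hwM hw.1 g hgM
  have hcx := commute_fix huf hw.1 hcw hw.2
  exact ⟨o, ho, c, hc, hcw, hcx, by rwa [mul_smul, hcx] at hgx, rfl⟩

theorem coreIn_conj [Finite G] {M : Subgroup G} {g o : G} (hg : g ∈ M) (ho : o ∈ coreIn M) :
    g * o * g⁻¹ ∈ coreIn M := by
  obtain ⟨o, ho, rfl⟩ := ho
  exact ⟨⟨g, hg⟩ * o * (⟨g, hg⟩ : M)⁻¹,
    (inferInstance : (Cfsg.oddCore ↥M).Normal).conj_mem o ho _, rfl⟩

theorem odd_coreIn [Finite G] (M : Subgroup G) : Odd (Nat.card (coreIn M)) := by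
  rw [coreIn, Subgroup.card_map_of_injective M.subtype_injective]
  exact CfsgLib.TwoGroups.odd_card_oddCore

theorem coreIn_le (M : Subgroup G) : coreIn M ≤ M := Subgroup.map_subtype_le _

/-- In an R1 local an involution normalises a Sylow subgroup of the stabilizer of its point. -/
theorem IsR1.exists_invariant_sylow [Finite G] (_huf : UniqueFix G Ω) {M : Subgroup G}
    (hM : IsR1 M) {w : G} (hwM : w ∈ M) {x : Ω} (hw : w ∈ invMap (G := G) x x) (q : ℕ)
    [Fact q.Prime] :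
    ∃ P : Sylow q ↥(M ⊓ MulAction.stabilizer G x), w ∈ Subgroup.normalizer
      (((P : Subgroup ↥(M ⊓ MulAction.stabilizer G x)).map
        (M ⊓ MulAction.stabilizer G x).subtype : Subgroup G) : Set G) := by
  set N : Subgroup G := M ⊓ MulAction.stabilizer G x
  have hwN : w ∈ N := ⟨hwM, hw.2⟩
  set W : Subgroup N := (coreIn M).subgroupOf N
  haveI : W.Normal := ⟨fun o ho g => by
    rw [Subgroup.mem_subgroupOf] at ho ⊢
    exact coreIn_conj g.2.1 ho⟩
  have hodd : Odd (Nat.card W) := by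
    refine (odd_coreIn M).of_dvd_nat ?_
    rw [← Subgroup.card_map_of_injective (f := N.subtype) N.subtype_injective]
    exact Subgroup.card_dvd_of_le (Subgroup.map_comap_le _ _)
  have hcen : ∀ g : N, (⟨w, hwN⟩ : N) * g * (⟨w, hwN⟩ : N)⁻¹ * g⁻¹ ∈ W := by
    intro g
    obtain ⟨o, ho, c, hc, hcw, hg⟩ := hM w hwM hw.1 g g.2.1
    rw [Subgroup.mem_subgroupOf]
    show w * (g : G) * w⁻¹ * (g : G)⁻¹ ∈ coreIn M
    have h1 : w * c * w⁻¹ = c := by rw [← hcw.eq, mul_inv_cancel_right]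
    have h2 : w * (g : G) * w⁻¹ * (g : G)⁻¹ = w * o * w⁻¹ * o⁻¹ := by
      rw [hg, show w * (o * c) * w⁻¹ = (w * o * w⁻¹) * (w * c * w⁻¹) by group, h1]
      group
    rw [h2]
    exact (coreIn M).mul_mem (coreIn_conj hwM ho) ((coreIn M).inv_mem ho)
  obtain ⟨P, hP⟩ := exists_invariant_sylow_of_central (w := (⟨w, hwN⟩ : N))
    (by rw [← Subgroup.orderOf_coe]; exact hw.1) hodd hcen q
  refine ⟨P, ?_⟩
  rw [Subgroup.mem_normalizer_iff_map_conj_eq] at hP ⊢
  conv_rhs => rw [← hP]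
  rw [Subgroup.map_map, Subgroup.map_map]
  rfl

/-- Conjugates of four groups are four groups. -/
theorem IsFour.map_conj {V : Subgroup G} (hV : IsFour V) (g : G) :
    IsFour (V.map (MulAut.conj g).toMonoidHom) := by
  refine ⟨?_, ?_⟩
  · rw [Subgroup.card_map_of_injective (f := (MulAut.conj g).toMonoidHom) (MulAut.conj g).injective,
      hV.1]
  · rintro _ ⟨x, hx, rfl⟩
    rw [← map_mul, hV.2 x hx, map_one]

/-- What induction gives, from splitting of the smaller simple groups. -/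
theorem localIH [Finite G] {n : ℕ} (hS : SplitHyp.{u} n) (hn : Nat.card G ≤ n)
    (huf : UniqueFix G Ω) : LocalIH G Ω := by
  rintro M hMne a ⟨t, htM, ht, hta⟩ ⟨g₀, hg₀, hg₀a⟩
  haveI : Fact (Nat.Prime 2) := ⟨Nat.prime_two⟩
  set Hm : Subgroup M := (MulAction.stabilizer G a).subgroupOf M with hHmdef
  have hmem : ∀ x : M, x ∈ Hm ↔ (x : G) • a = a := fun x => Iff.rfl
  have hne : Hm ≠ ⊤ := fun he =>
    hg₀a ((hmem ⟨g₀, hg₀⟩).1 (by rw [he]; trivial))
  have hev : Even (Nat.card Hm) := by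
    refine even_iff_two_dvd.2 ?_
    have : orderOf (⟨⟨t, htM⟩, hta⟩ : Hm) = 2 := by
      rw [← Subgroup.orderOf_coe, ← Subgroup.orderOf_coe]
      exact ht
    exact this ▸ orderOf_dvd_natCard _
  have hse : Cfsg.IsStronglyEmbedded Hm := by
    refine (isStronglyEmbedded_iff hne hev).2 fun s hs hso x hx => (hmem x).2 ?_
    rw [hmem] at hs hx
    refine huf.unique (s : G) (by rw [Subgroup.orderOf_coe, hso]) _ _ ?_ hs
    simp only [Subgroup.coe_mul, Subgroup.coe_inv, mul_smul] at hx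
    exact inv_smul_eq_iff.1 hx
  have hufM := uniqueFix hse
  haveI := nontrivial_cosets hse
  by_cases hfour : ∃ V ≤ M, IsFour V
  swap
  · -- rank one
    refine Or.inl fun w hwM hw g hgM => ?_
    push Not at hfour
    obtain ⟨z, hz, N, hN, hodd, hc⟩ := Cfsg.Agent.S0225.result (G := M)
      (hev.trans_dvd (Subgroup.card_subgroup_dvd_card Hm))
      fun E hE => hfour (E.map M.subtype) (Subgroup.map_subtype_le _) ⟨by
        rw [Subgroup.card_map_of_injective M.subtype_injective]; exact hE.card_four, by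
        rintro _ ⟨x, hx, rfl⟩
        haveI := hE
        rw [← map_mul, show x * x = 1 from congrArg Subtype.val (IsKleinFour.mul_self (⟨x, hx⟩ : E)),
          map_one]⟩
    haveI := hN
    have hwo : orderOf (⟨w, hwM⟩ : M) = 2 := by rw [← Subgroup.orderOf_coe]; exact hw
    obtain ⟨k, hk⟩ := isConj_iff.1 (isConj_invol hufM hz hwo)
    have hcomm : (⟨w, hwM⟩ : M) * ⟨g, hgM⟩ * (⟨w, hwM⟩ : M)⁻¹ * (⟨g, hgM⟩ : M)⁻¹ ∈ N := by
      have h := hN.conj_mem _ (hc (k⁻¹ * ⟨g, hgM⟩ * k)) k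
      rw [← hk]
      simpa [mul_assoc] using h
    obtain ⟨x, hx, hxc⟩ := exists_mul_commute (mul_self_of_orderOf_two hwo) hodd hcomm
    exact ⟨x, ⟨x, le_oddCore hodd hx, rfl⟩, (x : G)⁻¹ * g, M.mul_mem (M.inv_mem x.2) hgM,
      congrArg Subtype.val hxc, by group⟩
  -- 2-rank at least two
  obtain ⟨V, hVM, hV⟩ := hfour
  obtain ⟨V₁, hV₁M, hV₁, hV₁a⟩ : ∃ V₁ ≤ M, IsFour V₁ ∧ ∀ v ∈ V₁, v • a = a := by
    obtain ⟨v, hvV, hv⟩ := hV.exists_invol
    obtain ⟨m, hm⟩ := isConj_iff.1 (isConj_invol hufM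
      (s := (⟨v, hVM hvV⟩ : M)) (t := (⟨t, htM⟩ : M)) (by rw [← Subgroup.orderOf_coe]; exact hv)
      (by rw [← Subgroup.orderOf_coe]; exact ht))
    have hm' : (m : G) * v * (m : G)⁻¹ = t := congrArg Subtype.val hm
    refine ⟨V.map (MulAut.conj (m : G)).toMonoidHom, ?_, IsFour.map_conj hV _, ?_⟩
    · rintro _ ⟨y, hy, rfl⟩
      exact M.mul_mem (M.mul_mem m.2 (hVM hy)) (M.inv_mem m.2)
    · rintro _ ⟨y, hy, rfl⟩
      obtain ⟨x, hx⟩ := huf.exists_fix v hv
      have hmx : (m : G) • x = a := by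
        refine huf.unique t ht _ _ ?_ hta
        rw [← hm', smul_smul, inv_mul_cancel_right, mul_smul, hx]
      show ((m : G) * y * (m : G)⁻¹) • a = a
      rw [← hmx, smul_smul, inv_mul_cancel_right, mul_smul,
        commute_fix huf hv (hV.commute hy hvV) hx]
  have hcore : ∀ o ∈ coreIn M, ∀ g ∈ M, o • (g • a) = g • a := by
    intro o ho g hg
    refine MulAction.mem_stabilizer_iff.1 (le_stabilizer_of_four huf (IsFour.map_conj hV₁ g) ?_
      (odd_coreIn M) ?_ ho)
    · rintro _ ⟨y, hy, rfl⟩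
      show (g * y * g⁻¹) • g • a = g • a
      rw [smul_smul, inv_mul_cancel_right, mul_smul, hV₁a y hy]
    · rintro _ ⟨y, hy, rfl⟩
      have hyM : g * y * g⁻¹ ∈ M := M.mul_mem (M.mul_mem hg (hV₁M hy)) (M.inv_mem hg)
      show g * y * g⁻¹ ∈ Subgroup.normalizer (coreIn M : Set G)
      refine Subgroup.mem_normalizer_fintype fun z hz => ?_
      exact coreIn_conj hyM hz
  refine Or.inr ?_
  set O := Cfsg.oddCore ↥M with hOdef
  have hO : O ≤ Hm := fun o ho => (hmem o).2 (by simpa using hcore o ⟨o, ho, rfl⟩ 1 M.one_mem)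
  set π := QuotientGroup.mk' O
  have hπ : Function.Surjective π := QuotientGroup.mk'_surjective O
  have hse' := map_isStronglyEmbedded hse O hO CfsgLib.TwoGroups.odd_card_oddCore
  have hlt : Nat.card (M ⧸ O) < n := by
    refine lt_of_lt_of_le (lt_of_le_of_lt (b := Nat.card M) ?_ ?_) hn
    · exact Nat.card_le_card_of_surjective π hπ
    · exact lt_of_le_of_ne (Subgroup.card_le_card_group M) fun he =>
        hMne (Subgroup.eq_top_of_card_eq M he)
  obtain ⟨Q, hQH, hQp, hQn, hQtr, hQidx, hQel, hQc⟩ := split_of_oddCore_eq_bot hS hlt hse'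
    (CfsgLib.PLocal.pPrimeCore_quotient_pPrimeCore_eq_bot 2 M)
  have hcm : (Hm.map π).comap π = Hm := by
    rw [Subgroup.comap_map_eq, QuotientGroup.ker_mk', sup_eq_left.2 hO]
  have hker : ∀ x : M, π x = 1 ↔ x ∈ O := fun x => QuotientGroup.eq_one_iff x
  have horb : Nat.card (MulAction.orbit M a) = Nat.card Q + 1 := by
    rw [← hQidx, ← Subgroup.index_comap_of_surjective _ hπ, hcm]
    have hst : MulAction.stabilizer M a = Hm := by
      ext x
      rw [hmem, MulAction.mem_stabilizer_iff]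
      rfl
    rw [← hst, MulAction.index_stabilizer, Nat.card_coe_set_eq]
  obtain ⟨k, hk⟩ := IsPGroup.iff_card.1 hQp
  have hHmapOf : ∀ x : M, π x ∈ Hm.map π ↔ x ∈ Hm := fun x => by
    conv_rhs => rw [← hcm]
    exact Iff.rfl
  refine ⟨⟨V₁, hV₁M, hV₁, hV₁a⟩, hcore, ⟨k, ?_, by rw [horb, hk]⟩,
    ⟨(Q.comap π).map M.subtype, ?_, ?_, ?_, ?_, ?_, ?_, ?_⟩⟩
  · -- the four group embeds in `Q`
    have hmemQ : ∀ y : V₁, π ⟨y, hV₁M y.2⟩ ∈ Q := fun y =>
      hQel _ ((hHmapOf _).2 ((hmem _).2 (hV₁a y y.2))) 1 (by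
        rw [pow_one, sq, ← map_mul, ← map_one π]
        congr 1
        exact Subtype.ext (hV₁.2 y y.2))
    have hinj : Function.Injective (fun y : V₁ => (⟨_, hmemQ y⟩ : Q)) := by
      intro y z hyz
      have h1 : π ((⟨y, hV₁M y.2⟩ : M)⁻¹ * ⟨z, hV₁M z.2⟩) = 1 := by
        rw [map_mul, map_inv, show π ⟨y, hV₁M y.2⟩ = π ⟨z, hV₁M z.2⟩ from congrArg Subtype.val hyz,
          inv_mul_cancel]
      have h2 : (y : G)⁻¹ * z ∈ coreIn M := ⟨_, (hker _).1 h1, rfl⟩
      have h3 : (y : G)⁻¹ * z ∈ V₁ := V₁.mul_mem (V₁.inv_mem y.2) z.2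
      have h4 : (y : G)⁻¹ * z = 1 := Subgroup.mem_bot.1
        ((CfsgLib.PLocal.disjoint_of_isPGroup_of_coprime hV₁.isPGroup
          (Nat.coprime_two_right.2 (odd_coreIn M))).le ⟨h3, h2⟩)
      exact Subtype.ext (inv_mul_eq_one.1 h4)
    have h4 := Nat.card_le_card_of_injective _ hinj
    rw [hV₁.1, hk] at h4
    by_contra hk2
    have := Nat.pow_le_pow_right (show 0 < 2 by omega) (show k ≤ 1 by omega)
    omega
  · exact Subgroup.map_mono fun o ho => by
      rw [Subgroup.mem_comap, (hker o).2 ho]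
      exact Q.one_mem
  · rintro _ ⟨u, hu, rfl⟩
    exact ⟨u.2, (hmem u).1 ((hHmapOf u).1 (hQH hu))⟩
  · rintro g ⟨hgM, hga⟩ _ ⟨u, hu, rfl⟩
    refine ⟨⟨g, hgM⟩ * u * (⟨g, hgM⟩ : M)⁻¹, ?_, rfl⟩
    show π (⟨g, hgM⟩ * u * (⟨g, hgM⟩ : M)⁻¹) ∈ Q
    rw [map_mul, map_mul, map_inv]
    exact (Subgroup.mem_normalizer_iff.1 (hQn ((hHmapOf ⟨g, hgM⟩).2 hga)) _).1 hu
  · rintro _ ⟨u, hu, rfl⟩
    obtain ⟨j, hj⟩ := hQp ⟨_, hu⟩
    refine ⟨j, u ^ 2 ^ j, (hker _).1 ?_, rfl⟩
    rw [map_pow]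
    exact congrArg Subtype.val hj
  · rintro g ⟨hgM, hga⟩ j ⟨o, ho, hoe⟩
    refine ⟨⟨g, hgM⟩, hQel _ ((hHmapOf _).2 hga) j ?_, rfl⟩
    rw [← map_pow, show (⟨g, hgM⟩ : M) ^ 2 ^ j = o from Subtype.ext hoe.symm]
    exact (hker o).2 ho
  · rintro x ⟨g₁, rfl⟩ y ⟨g₂, rfl⟩ h₁ h₂
    obtain ⟨u, hu, hug⟩ := hQtr (π g₁) (π g₂) (fun h => h₁ ((hHmapOf g₁).1 h))
      (fun h => h₂ ((hHmapOf g₂).1 h))
    obtain ⟨u, rfl⟩ := hπ u
    refine ⟨u, ⟨u, hu, rfl⟩, ?_⟩
    rw [← map_inv, ← map_mul, ← map_mul, hHmapOf, hmem] at hug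
    simp only [Subgroup.coe_mul, Subgroup.coe_inv, mul_smul] at hug
    exact inv_smul_eq_iff.1 hug
  · rintro _ ⟨u, hu, rfl⟩ _ ⟨i, hi, rfl⟩ hio
    refine ⟨u * i * u⁻¹ * i⁻¹, (hker _).1 ?_, rfl⟩
    have hio' : orderOf (π i) = 2 := by
      refine orderOf_eq_prime ?_ fun h1 => ?_
      · rw [← map_pow, ← map_one π]
        congr 1
        refine Subtype.ext ?_
        show ((i : G)) ^ 2 = 1
        rw [← hio]
        exact pow_orderOf_eq_one _
      · have h := (odd_coreIn M).of_dvd_nat (Subgroup.orderOf_dvd_natCard _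
          (show (i : G) ∈ coreIn M from ⟨i, (hker i).1 h1, rfl⟩))
        rw [show orderOf (i : G) = 2 from hio] at h
        exact absurd h (by decide)
    have hc := hQc _ hu _ hi hio'
    simp only [map_mul, map_inv]
    rw [hc.eq]
    group

/-- A proper subgroup containing a strongly embedded subgroup is strongly embedded. -/
theorem isStronglyEmbedded_of_le {G : Type u} [Group G] [Finite G] {H M : Subgroup G}
    (hH : Cfsg.IsStronglyEmbedded H) (hle : H ≤ M) (hM : M ≠ ⊤) : Cfsg.IsStronglyEmbedded M := by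
  haveI : Fact (Nat.Prime 2) := ⟨Nat.prime_two⟩
  obtain ⟨S, hSH⟩ := exists_sylow_le hH
  have hev : Even (Nat.card M) := hH.2.1.trans_dvd (Subgroup.card_dvd_of_le hle)
  have hconj : ∀ s ∈ M, orderOf s = 2 → ∃ m ∈ M, m⁻¹ * s * m ∈ H := by
    intro s hs hso
    obtain ⟨P, hP⟩ := (IsPGroup.of_card (p := 2) (n := 1)
      (G := Subgroup.zpowers (⟨s, hs⟩ : M))
      (by rw [Nat.card_zpowers, ← Subgroup.orderOf_coe, pow_one]; exact hso)).exists_le_sylow
    obtain ⟨m, hm⟩ := MulAction.exists_smul_eq M (S.subtype (hSH.trans hle)) P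
    refine ⟨m, m.2, ?_⟩
    have hsP := hP (Subgroup.mem_zpowers _)
    rw [← hm] at hsP
    have h := (Subgroup.mem_smul_pointwise_iff_exists _ _ _).1 hsP
    obtain ⟨y, hy, hye⟩ := h
    have hye' : (m : G) * (y : G) * (m : G)⁻¹ = s := congrArg Subtype.val hye
    rw [← hye', show (m : G)⁻¹ * ((m : G) * y * (m : G)⁻¹) * m = y by group]
    exact hSH (Subgroup.mem_subgroupOf.1 hy)
  refine (isStronglyEmbedded_iff hM hev).2 fun s hs hso x hx => ?_
  obtain ⟨m, hmM, hm⟩ := hconj s hs hso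
  obtain ⟨k, hkM, hk⟩ := hconj _ hx (by
    rw [show x⁻¹ * s * x = x⁻¹ * s * x⁻¹⁻¹ by rw [inv_inv], orderOf_conj_eq, hso])
  have hmo : orderOf (m⁻¹ * s * m) = 2 := by
    rw [show m⁻¹ * s * m = m⁻¹ * s * m⁻¹⁻¹ by rw [inv_inv], orderOf_conj_eq, hso]
  have h := hle ((isStronglyEmbedded_iff hH.1 hH.2.1).1 hH _ hm hmo (m⁻¹ * x * k)
    (by simpa [mul_assoc] using hk))
  simpa [mul_assoc] using M.mul_mem (M.mul_mem hmM h) (M.inv_mem hkM)

/-- A simple group with a strongly embedded subgroup has a four group. -/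
theorem exists_isFour {G : Type u} [Group G] [Finite G] [IsSimpleGroup G] {H : Subgroup G}
    (hH : Cfsg.IsStronglyEmbedded H) : ∃ V : Subgroup G, IsFour V := by
  have huf := uniqueFix hH
  haveI := nontrivial_cosets hH
  by_contra hcon
  push Not at hcon
  obtain ⟨z, hz, N, hN, hodd, hc⟩ := Cfsg.Agent.S0225.result (G := G)
    (hH.2.1.trans_dvd (Subgroup.card_subgroup_dvd_card H))
    fun E hE => hcon E ⟨hE.card_four, fun x hx => by
      haveI := hE
      exact congrArg Subtype.val (IsKleinFour.mul_self (⟨x, hx⟩ : E))⟩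
  rcases hN.eq_bot_or_eq_top with rfl | rfl
  · obtain ⟨x, hx⟩ := huf.exists_fix z hz
    obtain ⟨y, hy⟩ := exists_ne x
    obtain ⟨g, hg⟩ := MulAction.exists_smul_eq G x y
    refine hy (hg ▸ commute_fix huf hz ?_ hx)
    show g * z = z * g
    have h := Subgroup.mem_bot.1 (hc g)
    rw [mul_inv_eq_one, mul_inv_eq_iff_eq_mul] at h
    exact h.symm
  · rw [Subgroup.card_top] at hodd
    have h2 := hH.2.1.trans_dvd (Subgroup.card_subgroup_dvd_card H)
    exact Nat.not_even_iff_odd.2 hodd h2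

/-- It suffices to split a `World`: induction on the order, passing to a maximal subgroup. -/
theorem splitHyp_of_world
    (h : ∀ (G : Type u) [Group G] [Finite G] [IsSimpleGroup G] (H : Subgroup G),
      Cfsg.IsStronglyEmbedded H → SplitHyp.{u} (Nat.card G) → World G (G ⧸ H) → Split H) :
    ∀ n, SplitHyp.{u} n := by
  intro n
  induction n with
  | zero => exact fun G _ _ _ hG => absurd hG (Nat.not_lt_zero _)
  | succ n ih =>
    intro G _ _ _ hG H hH
    haveI : Fact (Nat.Prime 2) := ⟨Nat.prime_two⟩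
    have hS : SplitHyp.{u} (Nat.card G) := ih.mono (Nat.lt_succ_iff.1 hG)
    obtain ⟨M, hMc, hle⟩ := (eq_top_or_exists_le_coatom H).resolve_left hH.1
    have hM := isStronglyEmbedded_of_le hH hle hMc.1
    have huf := uniqueFix hM
    have hW : World G (G ⧸ M) := by
      refine ⟨huf, inferInstance, nontrivial_cosets hM, exists_isFour hM, ?_,
        localIH hS le_rfl huf⟩
      intro a L hL
      obtain ⟨g, rfl⟩ := QuotientGroup.mk_surjective a
      rw [← smul_mk_one M g, MulAction.stabilizer_smul_eq_stabilizer_map_conj,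
        MulAction.stabilizer_quotient] at hL ⊢
      rcases hMc.le_iff.1 (Subgroup.map_le_iff_le_comap.1 hL) with he | he
      · refine Or.inr (top_unique fun x _ => ?_)
        have := (he ▸ Subgroup.mem_top (g⁻¹ * x * g) :
          g⁻¹ * x * g ∈ L.comap (MulAut.conj g).toMonoidHom)
        simpa [mul_assoc] using this
      · left
        rw [← he, Subgroup.map_comap_eq_self_of_surjective (MulAut.conj g).surjective]
    obtain ⟨Q, hQM, hQp, hQn, htr⟩ := h G M hM hS hW
    suffices hHM : M = H by exact hHM ▸ ⟨Q, hQM, hQp, hQn, htr⟩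
    refine le_antisymm (fun g hg => ?_) hle
    -- `Q` lies in `H`, is normal in `M` and has an involution
    obtain ⟨t, htH, ht⟩ := exists_invol_mem hH.2.1
    obtain ⟨q, hqQ, hq⟩ : ∃ q ∈ Q, orderOf q = 2 := by
      refine exists_invol_mem (even_iff_two_dvd.2 ?_)
      have h2 := card_dvd_index_sub_one hM (S := Subgroup.zpowers t)
        (IsPGroup.of_card (n := 1) (by rw [Nat.card_zpowers, ht, pow_one]))
        (Subgroup.zpowers_le.2 (hle htH))
      rwa [Nat.card_zpowers, ht, index_eq_of_transitive hM hQp hQM htr, Nat.add_sub_cancel] at h2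
    have hMN : M ≤ Subgroup.normalizer (Q : Set G) :=
      (Subgroup.normal_subgroupOf_iff_le_normalizer hQM).1 hQn
    obtain ⟨S, hSH⟩ := exists_sylow_le hH
    have hQH : Q ≤ H :=
      (le_sup_right.trans (S.is_maximal'
        (S.2.to_sup_of_normal_right' hQp ((hSH.trans hle).trans hMN)) le_sup_left).le).trans hSH
    exact (isStronglyEmbedded_iff hH.1 hH.2.1).1 hH q (hQH hqQ) hq g
      (hQH (by simpa using (Subgroup.mem_normalizer_iff.1 (hMN (M.inv_mem hg)) q).1 hqQ))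

end CfsgLib.BenderWorld
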