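import Cfsg.Agent.Characters.FixedPoints
import Cfsg.Agent.Characters.Induction
import Cfsg.Agent.Solvable.Hall
import Mathlib.GroupTheory.GroupAction.Quotient
import Mathlib.GroupTheory.Perm.Cycle.Type
import Mathlib.GroupTheory.Complement

/-!
# The symmetric pair given by an involutory automorphism of a group of odd order

`D` has odd order, `w` is an automorphism with `w (w d) = d`, `E` is its group of fixed points.

* `doubleCoset_invariant`: `d ↦ (w d)⁻¹` maps every double coset `EdE` to itself.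
* `classInner_perm_irr`: the permutation character on `D ⧸ E` is the sum, each with multiplicity
  one, of the irreducible `θ` with `θ (w d) = conj (θ d)`; these are real on `E` and, apart from
  the trivial one, not real.
* `exists_inverted_hall`: if `|E|` and `|D : E|` are coprime the inverted elements form an abelian
  normal Hall complement of `E` (for solvable `D`; apply the odd order theorem, `S0205`).
-/

set_option autoImplicit false
set_option linter.unusedSectionVars false
set_option linter.style.haveILetI false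

namespace CfsgLib.BenderWorld.Gelfand

open CfsgLib.Characters
open scoped ComplexConjugate Pointwise

universe u

theorem exists_fixed_of_involutive {α : Type*} [Finite α] {f : α → α}
    (hf : Function.Involutive f) (hodd : Odd (Nat.card α)) : ∃ a, f a = a := by
  classical
  haveI := Fintype.ofFinite α
  haveI := Fact.mk Nat.prime_two
  obtain ⟨a, ha⟩ := Equiv.Perm.exists_fixed_point_of_prime (p := 2) (n := 1)
    (σ := hf.toPerm f)
    (fun h => Nat.not_even_iff_odd.2 hodd (by rw [Nat.card_eq_fintype_card]; exact even_iff_two_dvd.2 h))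
    (Equiv.ext fun a => by simp [pow_two, hf a])
  exact ⟨a, ha⟩

/-- A real valued character of odd degree of a group of odd order contains the trivial character
an odd number of times. -/
theorem exists_odd_classInner_one {H : Type u} [Group H] [Fintype H] (hodd : Odd (Nat.card H))
    {ψ : H → ℂ} (hψ : Cfsg.IsCharacter H ψ) (hreal : ∀ g, conj (ψ g) = ψ g) {n : ℕ}
    (hn : ψ 1 = n) (hnodd : Odd n) :
    ∃ m : ℕ, Odd m ∧ Cfsg.classInner ψ (fun _ => 1) = m := by
  classical
  let one : Cfsg.IrrCharacter H := ⟨fun _ => 1, isIrr_one⟩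
  let cj : Cfsg.IrrCharacter H → Cfsg.IrrCharacter H := fun χ => ⟨_, isIrr_conj χ.2⟩
  have hcj : ∀ χ, cj (cj χ) = χ := fun χ => Subtype.ext (funext fun g => Complex.conj_conj _)
  have hone : cj one = one := Subtype.ext (funext fun _ => map_one conj)
  obtain ⟨m, hm⟩ := exists_nat_coeff hψ
  have hmi : ∀ χ : Cfsg.IrrCharacter H, Cfsg.classInner ψ (χ : H → ℂ) = m χ := fun χ => by
    rw [hm, classInner_irr_coeff (fun χ : Cfsg.IrrCharacter H => (m χ : ℂ))]
  refine ⟨m one, ?_, hmi one⟩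
  choose d hdpos hd using fun χ : Cfsg.IrrCharacter H => exists_degree_pos χ.2
  have hmcj : ∀ χ, m (cj χ) = m χ := fun χ => by
    have h := hmi (cj χ)
    rw [show ψ = fun g => conj (ψ g) from funext fun g => (hreal g).symm] at h
    change Cfsg.classInner (fun g => conj (ψ g)) (fun g => conj ((χ : H → ℂ) g)) = _ at h
    rw [classInner_conj_conj, hmi, Complex.conj_natCast] at h
    exact_mod_cast h.symm
  have hdcj : ∀ χ, d (cj χ) = d χ := fun χ => by
    have h : (d (cj χ) : ℂ) = d χ := by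
      rw [← hd]
      change conj ((χ : H → ℂ) 1) = _
      rw [hd, Complex.conj_natCast]
    exact_mod_cast h
  have hdone : d one = 1 := by
    have h : (d one : ℂ) = 1 := (hd one).symm
    exact_mod_cast h
  have hsum : n = ∑ χ, m χ * d χ := by
    have h : (n : ℂ) = ∑ χ, ((m χ * d χ : ℕ) : ℂ) := by
      rw [← hn, hm, Finset.sum_apply]
      exact Finset.sum_congr rfl fun χ _ => by simp [hd]
    exact_mod_cast h
  let F : Cfsg.IrrCharacter H → ZMod 2 := fun χ =>
    if χ = one then 0 else ((m χ * d χ : ℕ) : ZMod 2)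
  have hF : ∑ χ, F χ = 0 := by
    refine Finset.sum_ninvolution cj (fun χ => ?_) (fun χ hχ hfix => hχ ?_)
      (fun χ => Finset.mem_univ _) hcj
    · have h : F (cj χ) = F χ := by
        have hiff : cj χ = one ↔ χ = one :=
          ⟨fun h => by rw [← hcj χ, h, hone], fun h => by rw [h, hone]⟩
        simp only [F, hiff, hmcj, hdcj]
      rw [h]
      exact CharTwo.add_self_eq_zero _
    · exact if_pos (Subtype.ext (eq_one_of_real_of_odd hodd χ.2
        fun g => Complex.conj_eq_iff_im.1 (congrFun (congrArg Subtype.val hfix) g)))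
  have hcast : (n : ZMod 2) = (m one : ZMod 2) := by
    rw [hsum, Nat.cast_sum, ← Finset.add_sum_erase _ _ (Finset.mem_univ one)]
    rw [← Finset.add_sum_erase _ _ (Finset.mem_univ one)] at hF
    have he : ∑ χ ∈ Finset.univ.erase one, ((m χ * d χ : ℕ) : ZMod 2) =
        ∑ χ ∈ Finset.univ.erase one, F χ :=
      Finset.sum_congr rfl fun χ hχ => (if_neg (Finset.mem_erase.1 hχ).1).symm
    have hF1 : F one = 0 := if_pos rfl
    rw [hF1, zero_add] at hF
    rw [he, hF, add_zero, hdone, mul_one]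
  rw [ZMod.natCast_eq_natCast_iff'] at hcast
  rw [Nat.odd_iff] at hnodd ⊢
  omega

variable {D : Type u} [Group D] [Finite D] {w : D ≃* D} {E : Subgroup D}

section Elementary

theorem sq_inj (hodd : Odd (Nat.card D)) {a b : D} (h : a ^ 2 = b ^ 2) : a = b :=
  (powCoprime (Nat.coprime_two_right.2 hodd)).injective h

theorem exists_sq_eq (hodd : Odd (Nat.card D)) (s : D) : ∃ r : D, r ^ 2 = s :=
  (powCoprime (Nat.coprime_two_right.2 hodd)).surjective s

theorem mem_of_sq_mem (hodd : Odd (Nat.card D)) {K : Subgroup D} {r : D} (h : r ^ 2 ∈ K) :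
    r ∈ K := by
  obtain ⟨m, hm⟩ := exists_pow_eq_self_of_coprime
    (Nat.coprime_two_left.2 (hodd.of_dvd_nat (orderOf_dvd_natCard r)) : Nat.Coprime 2 (orderOf r))
  exact hm ▸ K.pow_mem h m

theorem commute_of_sq (hodd : Odd (Nat.card D)) {x p : D} (h : Commute x (p ^ 2)) :
    Commute x p := by
  have h1 : x * p * x⁻¹ = p := sq_inj hodd (by rw [conj_pow, h.eq, mul_inv_cancel_right])
  exact mul_inv_eq_iff_eq_mul.1 h1

theorem sqrt_inverted (hodd : Odd (Nat.card D)) {r s : D} (hr : r ^ 2 = s) (hs : w s = s⁻¹) :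
    w r = r⁻¹ := sq_inj hodd (by rw [← map_pow, hr, hs, inv_pow, hr])

variable (hodd : Odd (Nat.card D)) (hw : ∀ d, w (w d) = d) (hE : ∀ d, d ∈ E ↔ w d = d)
include hodd hw hE

/-- Every element is an inverted element times a fixed one. -/
theorem exists_decomp (d : D) : ∃ p, w p = p⁻¹ ∧ p⁻¹ * d ∈ E := by
  obtain ⟨r, hr⟩ := exists_sq_eq hodd (d * (w d)⁻¹)
  have hrw : w r = r⁻¹ := sqrt_inverted hodd hr (by simp [hw])
  refine ⟨r, hrw, (hE _).2 ?_⟩
  rw [map_mul, map_inv, hrw, inv_inv]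
  rw [pow_two] at hr
  calc r * w d = r⁻¹ * (r * r) * w d := by group
    _ = r⁻¹ * d := by rw [hr]; group

omit hw in
theorem eq_of_inv_mul_mem {p q : D} (hp : w p = p⁻¹) (hq : w q = q⁻¹) (h : p⁻¹ * q ∈ E) :
    p = q := by
  have h1 : p * q⁻¹ = p⁻¹ * q := by
    have := (hE _).1 h
    rwa [map_mul, map_inv, hp, hq, inv_inv] at this
  refine sq_inj hodd ?_
  rw [pow_two, pow_two]
  calc p * p = p * (p * q⁻¹) * q := by group
    _ = q * q := by rw [h1]; group

omit hodd hw in
theorem conj_inverted {e p : D} (he : e ∈ E) (hp : w p = p⁻¹) :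
    w (e * p * e⁻¹) = (e * p * e⁻¹)⁻¹ := by
  rw [map_mul, map_mul, map_inv, (hE e).1 he, hp]; group

omit hw in
theorem commute_of_conj_mem {e p : D} (he : e ∈ E) (hp : w p = p⁻¹) (h : p⁻¹ * e * p ∈ E) :
    Commute e p := by
  refine commute_of_sq hodd ?_
  have h1 : p * e * p⁻¹ = p⁻¹ * e * p := by
    have := (hE _).1 h
    rwa [map_mul, map_mul, map_inv, (hE e).1 he, hp, inv_inv] at this
  rw [pow_two]
  change e * (p * p) = p * p * e
  calc e * (p * p) = p * (p⁻¹ * e * p) * p := by group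
    _ = p * p * e := by rw [← h1]; group

/-- `d ↦ (w d)⁻¹` maps every double coset of `E` to itself. -/
theorem doubleCoset_invariant (d : D) : ∃ a ∈ E, ∃ b ∈ E, (w d)⁻¹ = a * d * b := by
  obtain ⟨p, hp, he⟩ := exists_decomp hodd hw hE d
  refine ⟨(p⁻¹ * d)⁻¹, inv_mem he, (p⁻¹ * d)⁻¹, inv_mem he, ?_⟩
  have h1 : w (p⁻¹ * d) = p⁻¹ * d := (hE _).1 he
  rw [map_mul, map_inv, hp, inv_inv] at h1
  rw [show w d = p⁻¹ * (p⁻¹ * d) from eq_inv_mul_of_mul_eq h1]
  simp [mul_assoc]

theorem doubleCoset_invariant_set (d x : D) (hx : ∃ a ∈ E, ∃ b ∈ E, x = a * d * b) :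
    ∃ a ∈ E, ∃ b ∈ E, (w x)⁻¹ = a * d * b := by
  obtain ⟨a, ha, b, hb, rfl⟩ := hx
  obtain ⟨a', ha', b', hb', h⟩ := doubleCoset_invariant hodd hw hE (a * d * b)
  exact ⟨a' * a, mul_mem ha' ha, b * b', mul_mem hb hb', by rw [h]; group⟩

theorem card_inverted : Nat.card {p : D // w p = p⁻¹} = E.index := by
  rw [Subgroup.index_eq_card]
  refine Nat.card_congr (Equiv.ofBijective (fun p => ((p.1 : D) : D ⧸ E)) ⟨?_, ?_⟩)
  · rintro ⟨p, hp⟩ ⟨q, hq⟩ h
    exact Subtype.ext (eq_of_inv_mul_mem hodd hE hp hq (QuotientGroup.eq.1 h))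
  · intro x
    obtain ⟨d, rfl⟩ := QuotientGroup.mk_surjective x
    obtain ⟨p, hp, he⟩ := exists_decomp hodd hw hE d
    exact ⟨⟨p, hp⟩, QuotientGroup.eq.2 he⟩

/-- Inverted elements conjugate in `D` are conjugate under `E`. -/
theorem exists_conj_eq_of_isConj {p q : D} (hp : w p = p⁻¹) (hq : w q = q⁻¹) (h : IsConj p q) :
    ∃ e ∈ E, e * p * e⁻¹ = q := by
  obtain ⟨d, hd⟩ := isConj_iff.1 h
  have h1 : w d * p * (w d)⁻¹ = q := by
    have := congrArg w hd
    simp only [map_mul, map_inv, hp, hq] at this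
    rw [← inv_inj, ← this]; group
  have hc : Commute (d⁻¹ * w d) p := by
    change d⁻¹ * w d * p = p * (d⁻¹ * w d)
    calc d⁻¹ * w d * p = d⁻¹ * (w d * p * (w d)⁻¹) * w d := by group
      _ = p * (d⁻¹ * w d) := by rw [h1, ← hd]; group
  obtain ⟨r, hr⟩ := exists_sq_eq hodd (d⁻¹ * w d)
  have hrw : w r = r⁻¹ := sqrt_inverted hodd hr (by simp [hw])
  have hrp : Commute p r := commute_of_sq hodd (by rw [hr]; exact hc.symm)
  refine ⟨d * r, (hE _).2 ?_, ?_⟩
  · rw [map_mul, hrw]
    calc w d * r⁻¹ = d * (d⁻¹ * w d) * r⁻¹ := by group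
      _ = d * r := by rw [← hr, pow_two]; group
  · calc d * r * p * (d * r)⁻¹ = d * (r * p) * r⁻¹ * d⁻¹ := by group
      _ = q := by rw [← hrp.eq, ← hd]; group

theorem natCard_fixedBy (e : E) :
    Nat.card (MulAction.fixedBy (D ⧸ E) (e : D)) =
      Nat.card {p : D // w p = p⁻¹ ∧ Commute (e : D) p} := by
  have hfix : ∀ p : {p : D // w p = p⁻¹ ∧ Commute (e : D) p},
      ((p.1 : D) : D ⧸ E) ∈ MulAction.fixedBy (D ⧸ E) (e : D) := fun p => by
    rw [MulAction.mem_fixedBy, MulAction.Quotient.smul_coe, smul_eq_mul, QuotientGroup.eq,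
      p.2.2.eq]
    simp [mul_assoc, e.2]
  refine (Nat.card_congr (Equiv.ofBijective (fun p => ⟨_, hfix p⟩) ⟨?_, ?_⟩)).symm
  · intro p q h
    exact Subtype.ext (eq_of_inv_mul_mem hodd hE p.2.1 q.2.1
      (QuotientGroup.eq.1 (congrArg Subtype.val h)))
  · rintro ⟨x, hx⟩
    obtain ⟨d, rfl⟩ := QuotientGroup.mk_surjective x
    obtain ⟨p, hp, he⟩ := exists_decomp hodd hw hE d
    rw [← (QuotientGroup.eq.2 he : ((p : D) : D ⧸ E) = d)] at hx
    rw [MulAction.mem_fixedBy, MulAction.Quotient.smul_coe, smul_eq_mul, QuotientGroup.eq] at hx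
    have h2 : p⁻¹ * e * p ∈ E := by
      rw [show p⁻¹ * (e : D) * p = (((e : D) * p)⁻¹ * p)⁻¹ by group]
      exact inv_mem hx
    exact ⟨⟨p, hp, commute_of_conj_mem hodd hE e.2 hp h2⟩, Subtype.ext (QuotientGroup.eq.2 he)⟩

end Elementary

/-- `E` acts by conjugation on the inverted elements. -/
@[reducible]
def conjAction (hE : ∀ d, d ∈ E ↔ w d = d) : MulAction E {p : D // w p = p⁻¹} where
  smul e p := ⟨e * p.1 * (e : D)⁻¹, conj_inverted hE e.2 p.2⟩
  one_smul p := Subtype.ext (show (1 : D) * p.1 * 1⁻¹ = p.1 by group)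
  mul_smul e f p := Subtype.ext
    (show (e * f : D) * p.1 * (e * f : D)⁻¹ = e * (f * p.1 * (f : D)⁻¹) * (e : D)⁻¹ by group)

theorem isConj_twist {a b : D} (h : IsConj a b) : IsConj (w a)⁻¹ (w b)⁻¹ := by
  obtain ⟨c, rfl⟩ := isConj_iff.1 h
  exact isConj_iff.2 ⟨w c, by simp [mul_assoc]⟩

variable [Fintype D] (hodd : Odd (Nat.card D)) (hw : ∀ d, w (w d) = d)
  (hE : ∀ d, d ∈ E ↔ w d = d)
include hodd hw hE

theorem indFun_coe (e : E) :
    Cfsg.indFun E (fun _ => (1 : ℂ)) (e : D) =
      (Nat.card {p : D // w p = p⁻¹ ∧ Commute (e : D) p} : ℂ) := by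
  rw [← natCard_fixedBy hodd hw hE e, card_fixedBy_eq_indFun (D ⧸ E) ((1 : D) : D ⧸ E)]
  exact congrArg (fun S : Subgroup D => Cfsg.indFun S (fun _ => (1 : ℂ)) (e : D))
    (MulAction.stabilizer_quotient E).symm

/-- The orbits of `E` on the inverted elements are the classes stable under the twist. -/
theorem sum_natCard_commute [Fintype E] :
    ∑ e : E, Nat.card {p : D // w p = p⁻¹ ∧ Commute (e : D) p} =
      Nat.card {C : ConjClasses D // ∀ g, ConjClasses.mk g = C → IsConj g (w g)⁻¹} *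
        Nat.card E := by
  classical
  letI := conjAction hE
  have hstable : ∀ p : {p : D // w p = p⁻¹}, ∀ g,
      ConjClasses.mk g = ConjClasses.mk p.1 → IsConj g (w g)⁻¹ := fun p g hg => by
    have h := ConjClasses.mk_eq_mk_iff_isConj.1 hg
    have h2 := isConj_twist (w := w) h
    rw [p.2, inv_inv] at h2
    exact h.trans h2.symm
  let f : MulAction.orbitRel.Quotient E {p : D // w p = p⁻¹} →
      {C : ConjClasses D // ∀ g, ConjClasses.mk g = C → IsConj g (w g)⁻¹} :=
    Quotient.lift (fun p => ⟨ConjClasses.mk p.1, hstable p⟩) (fun p q hpq => by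
      obtain ⟨e, rfl⟩ := MulAction.orbitRel_apply.1 hpq
      exact Subtype.ext (ConjClasses.mk_eq_mk_iff_isConj.2
        (isConj_iff.2 ⟨(e : D), rfl⟩).symm))
  have hf : Function.Bijective f := by
    refine ⟨?_, ?_⟩
    · rintro ⟨p⟩ ⟨q⟩ h
      obtain ⟨e, he, hpq⟩ := exists_conj_eq_of_isConj hodd hw hE q.2 p.2
        (ConjClasses.mk_eq_mk_iff_isConj.1 (congrArg Subtype.val h)).symm
      exact Quotient.sound (MulAction.orbitRel_apply.2 ⟨⟨e, he⟩, Subtype.ext hpq⟩)
    · rintro ⟨C, hC⟩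
      obtain ⟨a, rfl⟩ := ConjClasses.mk_surjective C
      have hS : Odd (Nat.card {x : D // IsConj x a}) := by
        rw [card_conjugates_eq_index]
        exact hodd.of_dvd_nat (Subgroup.index_dvd_card _)
      obtain ⟨⟨x, hx⟩, hfix⟩ := exists_fixed_of_involutive
        (f := fun x : {x : D // IsConj x a} =>
          (⟨(w x.1)⁻¹, (isConj_twist x.2).trans (hC a rfl).symm⟩ : {x : D // IsConj x a}))
        (fun x => Subtype.ext (by simp [hw])) hS
      refine ⟨Quotient.mk'' ⟨x, inv_eq_iff_eq_inv.1 (congrArg Subtype.val hfix)⟩, ?_⟩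
      exact Subtype.ext (ConjClasses.mk_eq_mk_iff_isConj.2 hx)
  haveI : Fintype {p : D // w p = p⁻¹} := Fintype.ofFinite _
  rw [← Nat.card_congr (Equiv.ofBijective f hf), Nat.card_eq_fintype_card,
    Nat.card_eq_fintype_card (α := E),
    ← MulAction.sum_card_fixedBy_eq_card_orbits_mul_card_group E {p : D // w p = p⁻¹}]
  refine Finset.sum_congr rfl fun e _ => ?_
  rw [← Nat.card_eq_fintype_card]
  refine (Nat.card_congr ((Equiv.subtypeEquivRight fun p => ?_).trans
    (Equiv.subtypeSubtypeEquivSubtypeInter (fun p : D => w p = p⁻¹)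
      (fun p => Commute (e : D) p)))).symm
  rw [MulAction.mem_fixedBy, Subtype.ext_iff]
  exact mul_inv_eq_iff_eq_mul

/-- The permutation character on `D ⧸ E` is the sum, with multiplicity one, of the irreducible
characters `θ` with `θ (w d) = conj (θ d)`. -/
theorem classInner_perm_irr {θ : D → ℂ} (hθ : Cfsg.IsIrrCharacter D θ) :
    ((∀ d, θ (w d) = conj (θ d)) →
        Cfsg.classInner (Cfsg.indFun E (fun _ => (1 : ℂ))) θ = 1) ∧
      (¬ (∀ d, θ (w d) = conj (θ d)) →
        Cfsg.classInner (Cfsg.indFun E (fun _ => (1 : ℂ))) θ = 0) := by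
  classical
  haveI := Fintype.ofFinite E
  set π : D → ℂ := Cfsg.indFun E (fun _ => (1 : ℂ))
  have hπ : Cfsg.IsCharacter D π := isCharacter_indFun E isCharacter_one
  choose m hm using fun χ : Cfsg.IrrCharacter D => classInner_character_irr hπ χ.2
  let Fx : Cfsg.IrrCharacter D → Prop := fun χ =>
    (fun g => (χ : D → ℂ) (w g)⁻¹) = (χ : D → ℂ)
  have hFx : ∀ χ, Fx χ ↔ ∀ d, (χ : D → ℂ) (w d) = conj ((χ : D → ℂ) d) := fun χ => by
    simp only [Fx, funext_iff, character_inv (isCharacter_of_isIrr χ.2)]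
    refine forall_congr' fun d => ⟨fun h => ?_, fun h => ?_⟩
    · rw [← h, Complex.conj_conj]
    · rw [h, Complex.conj_conj]
  -- the norm counts the stable classes, hence the fixed irreducible characters
  have hsum : ∑ χ, m χ ^ 2 = Nat.card {χ // Fx χ} := by
    rw [card_fixed_irr (fun g => (w g)⁻¹) (fun χ => by
      rw [show (fun g => (χ : D → ℂ) (w g)⁻¹) = fun g => conj ((χ : D → ℂ) (w g)) from
        funext fun g => character_inv (isCharacter_of_isIrr χ.2) (w g)]
      exact isIrr_conj (isIrr_comp w.toMonoidHom w.surjective χ.2)) fun a b h => isConj_twist h]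
    have hnorm : Cfsg.classInner π π =
        (Nat.card {C : ConjClasses D // ∀ g, ConjClasses.mk g = C → IsConj g (w g)⁻¹} : ℂ) := by
      rw [classInner_indFun E _ (isClassFunction_indFun E _), Cfsg.classInner,
        Finset.sum_congr rfl (g := fun e : E =>
          ((Nat.card {p : D // w p = p⁻¹ ∧ Commute (e : D) p} : ℕ) : ℂ)) fun e _ => by
          rw [one_mul, indFun_coe hodd hw hE, Complex.conj_natCast]]
      rw [← Nat.cast_sum, sum_natCard_commute hodd hw hE, Nat.cast_mul, mul_comm, mul_assoc,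
        mul_inv_cancel₀ (subgroup_card_ne_zero E), mul_one]
    rw [classInner_eq_sum (isClassFunction_of_isCharacter hπ)] at hnorm
    simp only [hm, Complex.conj_natCast, ← pow_two] at hnorm
    exact_mod_cast hnorm
  have hpos : ∀ χ, Fx χ → 1 ≤ m χ := by
    intro χ hχ
    rw [hFx] at hχ
    obtain ⟨n, ρ, hρ, hρc⟩ := χ.2
    have hn : (χ : D → ℂ) 1 = (Module.finrank ℂ (Fin n → ℂ) : ℂ) := by
      rw [← hρc, Representation.char_one]
    obtain ⟨k, hk, hk'⟩ := exists_odd_classInner_one (H := E)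
      (hodd.of_dvd_nat (Subgroup.card_subgroup_dvd_card E))
      (isCharacter_restrict E (isCharacter_of_isIrr χ.2))
      (fun e => by
        have h := hχ e
        rw [(hE _).1 e.2] at h
        exact h.symm)
      hn (hodd.of_dvd_nat (finrank_dvd_card ρ))
    have h1 : Cfsg.classInner π (χ : D → ℂ) = k := by
      rw [classInner_indFun E _ (isClassFunction_of_isIrr χ.2), classInner_conj_symm, hk',
        Complex.conj_natCast]
    rw [hm] at h1
    have h2 : m χ = k := by exact_mod_cast h1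
    exact h2 ▸ hk.pos
  have hkey : ∀ χ, (if Fx χ then 1 else 0) = m χ ^ 2 := by
    refine fun χ => (Finset.sum_eq_sum_iff_of_le (s := Finset.univ)
      (f := fun i => if Fx i then 1 else 0) (g := fun i => m i ^ 2) fun i _ => ?_).1 ?_ χ
      (Finset.mem_univ χ)
    · split_ifs with h
      · exact Nat.one_le_pow _ _ (hpos i h)
      · exact Nat.zero_le _
    · rw [hsum, Finset.sum_boole, Nat.card_eq_fintype_card, Fintype.card_subtype]
      rfl
  have h := hkey ⟨θ, hθ⟩
  rw [hm ⟨θ, hθ⟩]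
  refine ⟨fun ht => ?_, fun ht => ?_⟩
  · rw [if_pos ((hFx ⟨θ, hθ⟩).2 ht)] at h
    rw [(pow_eq_one_iff.1 h.symm).resolve_right (by norm_num), Nat.cast_one]
  · rw [if_neg (mt (hFx ⟨θ, hθ⟩).1 ht)] at h
    rw [eq_zero_of_pow_eq_zero h.symm, Nat.cast_zero]

/-- The permutation character on `D ⧸ E` is multiplicity free. -/
theorem classInner_perm_eq_zero_or_one {θ : D → ℂ} (hθ : Cfsg.IsIrrCharacter D θ) :
    Cfsg.classInner (Cfsg.indFun E (fun _ => (1 : ℂ))) θ = 0 ∨
      Cfsg.classInner (Cfsg.indFun E (fun _ => (1 : ℂ))) θ = 1 := by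
  by_cases h : ∀ d, θ (w d) = conj (θ d)
  · exact Or.inr ((classInner_perm_irr hodd hw hE hθ).1 h)
  · exact Or.inl ((classInner_perm_irr hodd hw hE hθ).2 h)

/-- A constituent satisfies `θ (w d) = conj (θ d)`. -/
theorem twisted_of_constituent {θ : D → ℂ} (hθ : Cfsg.IsIrrCharacter D θ)
    (h : Cfsg.classInner (Cfsg.indFun E (fun _ => (1 : ℂ))) θ ≠ 0) (d : D) :
    θ (w d) = conj (θ d) :=
  not_not.1 (fun hn => h ((classInner_perm_irr hodd hw hE hθ).2 hn)) d

/-- A constituent is real on `E`. -/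
theorem im_eq_zero_of_mem {θ : D → ℂ} (hθ : Cfsg.IsIrrCharacter D θ)
    (h : Cfsg.classInner (Cfsg.indFun E (fun _ => (1 : ℂ))) θ ≠ 0) {e : D} (he : e ∈ E) :
    (θ e).im = 0 := by
  have h1 := twisted_of_constituent hodd hw hE hθ h e
  rw [(hE e).1 he] at h1
  exact Complex.conj_eq_iff_im.1 h1.symm

omit hw hE in
/-- A nontrivial irreducible character is not real. -/
theorem exists_im_ne_zero {θ : D → ℂ} (hθ : Cfsg.IsIrrCharacter D θ) (h1 : θ ≠ fun _ => 1) :
    ∃ d, (θ d).im ≠ 0 := by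
  by_contra! h
  exact h1 (eq_one_of_real_of_odd hodd hθ h)

omit [Fintype D] in
/-- If `|E|` is prime to its index, the inverted elements form an abelian normal Hall complement
of `E`. -/
theorem exists_inverted_hall [Group.IsSolvable D] (hcop : Nat.Coprime (Nat.card E) E.index) :
    ∃ W : Subgroup D, (∀ d, d ∈ W ↔ w d = d⁻¹) ∧ W.Normal ∧
      (∀ a ∈ W, ∀ b ∈ W, Commute a b) ∧ Subgroup.IsComplement' W E ∧
      Nat.card W = E.index ∧ Nat.Coprime (Nat.card W) W.index := by
  classical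
  letI : MulAction D (Subgroup D) := MulAction.compHom _ (MulAut.conj : D →* MulAut D)
  set π : Set ℕ := {p | p ∣ E.index}
  obtain ⟨H, hH⟩ := Solvable.exists_isPiHall π D
  -- an invariant Hall subgroup
  have hhall : ∀ K ∈ MulAction.orbit D H, Cfsg.IsPiHall π K := by
    rintro _ ⟨g, rfl⟩
    exact Solvable.isPiHall_conj_smul hH g
  have hmap : ∀ K ∈ MulAction.orbit D H, K.map w.toMonoidHom ∈ MulAction.orbit D H := by
    intro K hK
    obtain ⟨g, hg⟩ := Solvable.exists_conj_eq_isPiHall hH (K := K.map w.toMonoidHom) (by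
      refine ⟨?_, ?_⟩
      · rw [Subgroup.card_map_of_injective (f := w.toMonoidHom) w.injective]
        exact (hhall K hK).1
      · rw [show (K.map w.toMonoidHom).index = K.index from Subgroup.index_map_equiv K w]
        exact (hhall K hK).2)
    exact ⟨g, hg⟩
  obtain ⟨⟨W, hW⟩, hWfix⟩ := exists_fixed_of_involutive
    (f := fun K : MulAction.orbit D H =>
      (⟨K.1.map w.toMonoidHom, hmap K.1 K.2⟩ : MulAction.orbit D H))
    (fun K => Subtype.ext (by
      change (K.1.map w.toMonoidHom).map w.toMonoidHom = K.1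
      rw [Subgroup.map_map]
      conv_rhs => rw [← Subgroup.map_id K.1]
      exact congrArg (fun f => Subgroup.map f K.1) (MonoidHom.ext fun x => hw x)))
    (by rw [Nat.card_coe_set_eq, ← MulAction.index_stabilizer D H]
        exact hodd.of_dvd_nat (Subgroup.index_dvd_card _))
  have hWpi := hhall W hW
  have hWw : ∀ d ∈ W, w d ∈ W := fun d hd => by
    have h : w d ∈ W.map w.toMonoidHom := Subgroup.mem_map_of_mem _ hd
    rwa [show W.map w.toMonoidHom = W from congrArg Subtype.val hWfix] at h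
  -- orders
  have hWE : Nat.Coprime (Nat.card W) (Nat.card E) := by
    refine Nat.coprime_of_dvd fun p hp h1 h2 => hp.ne_one ?_
    exact Nat.eq_one_of_dvd_coprimes hcop h2 (hWpi.1 p hp h1)
  have hWi : Nat.Coprime E.index W.index :=
    Nat.coprime_of_dvd fun p hp h1 h2 => hWpi.2 p hp h1 h2
  have hmul : Nat.card W * W.index = Nat.card E * E.index := by
    rw [Subgroup.card_mul_index, Subgroup.card_mul_index]
  have hcard : Nat.card W = E.index := Nat.dvd_antisymm
    (hWE.dvd_of_dvd_mul_left (hmul ▸ Dvd.intro _ rfl))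
    (hWi.dvd_of_dvd_mul_right (hmul.symm ▸ Dvd.intro_left _ rfl))
  -- every element of it is inverted
  have hsub : ∀ d ∈ W, w d = d⁻¹ := by
    intro d hd
    obtain ⟨p, hp, he⟩ := exists_decomp hodd hw hE d
    have h1 : p ^ 2 = d * (w d)⁻¹ := by
      have h := (hE _).1 he
      rw [map_mul, map_inv, hp, inv_inv] at h
      rw [show w d = p⁻¹ * (p⁻¹ * d) from eq_inv_mul_of_mul_eq h]
      simp [pow_two, mul_assoc]
    have hpW : p ∈ W := mem_of_sq_mem hodd (by rw [h1]; exact mul_mem hd (inv_mem (hWw d hd)))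
    have h2 : p⁻¹ * d ∈ W ⊓ E := Subgroup.mem_inf.2 ⟨mul_mem (inv_mem hpW) hd, he⟩
    rw [(Subgroup.disjoint_of_coprime_natCard hWE).eq_bot, Subgroup.mem_bot,
      inv_mul_eq_one] at h2
    rw [← h2, hp]
  have hmem : ∀ d, d ∈ W ↔ w d = d⁻¹ := by
    refine fun d => ⟨hsub d, fun hd => ?_⟩
    have hbij : Function.Bijective (fun x : W => (⟨x.1, hsub x.1 x.2⟩ : {p : D // w p = p⁻¹})) :=
      (Nat.bijective_iff_injective_and_card _).2
        ⟨fun x y h => Subtype.ext (Subtype.mk.inj h),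
          hcard.trans (card_inverted hodd hw hE).symm⟩
    obtain ⟨x, hx⟩ := hbij.2 ⟨d, hd⟩
    rw [← show (x : D) = d from Subtype.mk.inj hx]
    exact x.2
  have hcomm : ∀ a ∈ W, ∀ b ∈ W, Commute a b := by
    intro a ha b hb
    have h := (hmem _).1 (mul_mem ha hb)
    rw [map_mul, hsub a ha, hsub b hb, ← mul_inv_rev, inv_inj] at h
    exact h.symm
  refine ⟨W, hmem, ⟨fun x hx d => ?_⟩, hcomm,
    Subgroup.isComplement'_of_coprime ?_ hWE, hcard, ?_⟩
  · obtain ⟨p, hp, he⟩ := exists_decomp hodd hw hE d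
    have h1 : p⁻¹ * d * x * (p⁻¹ * d)⁻¹ ∈ W :=
      (hmem _).2 (conj_inverted hE he (hsub x hx))
    rw [show d * x * d⁻¹ = p * (p⁻¹ * d * x * (p⁻¹ * d)⁻¹) * p⁻¹ by group]
    exact mul_mem (mul_mem ((hmem p).2 hp) h1) (inv_mem ((hmem p).2 hp))
  · rw [hcard, mul_comm]
    exact Subgroup.card_mul_index E
  · rw [hcard]; exact hWi

end CfsgLib.BenderWorld.Gelfand
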