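import Cfsg.Agent.BenderWorld.Clean
import Cfsg.Agent.BenderWorld.ConfigKill
import Cfsg.Agent.BenderWorld.NoKill.Main
import Cfsg.Agent.BenderWorld.Finish.Main
import Cfsg.Agent.BenderUse.SplitUse

/-!
# Bender's strongly embedded theorem, assembled

Everything of route 8 put together; the only hypothesis is slice C (a moved core of a local with a
four group kills).
-/

set_option autoImplicit false
set_option linter.style.haveILetI false

namespace CfsgLib.BenderWorld

open CfsgLib.SEmbed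

universe u

/-- Slice C as a hypothesis. -/
def CoreKills : Prop :=
  ∀ (G : Type u) [Group G] [Finite G] (Ω : Type u) [MulAction G Ω], World G Ω →
    ∀ M : Subgroup G, M ≠ ⊤ → ∀ a : Ω, IsR2 M a → ∀ v ∈ M, v ∈ invMap (G := G) a a →
      (∃ o ∈ coreIn M, ¬ Commute o v) → Kill G Ω

/-- All strongly embedded subgroups of simple groups split. -/
theorem splitHyp_of_coreKills (hC : CoreKills.{u}) : ∀ n, SplitHyp.{u} n :=
  splitHyp_of_clean fun G _ _ Ω _ W => clean_of_kill W
    (fun _ hq hq2 _ _ _ hc => kill_of_config W (hC G Ω W) hq hq2 hc)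
    (hC G Ω W) (fun hk => commute_of_kill W hk)

/-- The form used by the consumers in `BenderUse`. -/
theorem benderUse_of_coreKills (hC : CoreKills.{u}) : CfsgLib.BenderUse.SplitHyp.{u} := by
  intro G _ _ _ _ H hH
  obtain ⟨Q, hQH, hQ2, hQn, htr⟩ := splitHyp_of_coreKills hC (Nat.card G + 1) G (Nat.lt_succ_self _) H hH
  refine ⟨Q, hQH, hQn, htr, fun g hg u hu hug => ?_⟩
  have hmem : u ∈ H ⊓ H.map (MulAut.conj g).toMonoidHom :=
    ⟨hQH hu, ⟨_, hug, by simp [mul_assoc]⟩⟩
  obtain ⟨k, hk⟩ := hQ2 ⟨u, hu⟩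
  have hk' : u ^ 2 ^ k = 1 := congrArg Subtype.val hk
  have hodd : Odd (orderOf u) :=
    (hH.2.2 g hg).of_dvd_nat (Subgroup.orderOf_dvd_natCard _ hmem)
  exact orderOf_eq_one_iff.1 (Nat.eq_one_of_dvd_coprimes
    ((Nat.coprime_two_left.2 hodd).pow_left k) (orderOf_dvd_of_pow_eq_one hk') dvd_rfl)

/-- Bender's theorem for simple groups, in the form of `BenderUse.Hyp`. -/
theorem hyp_of_coreKills (hC : CoreKills.{u}) : CfsgLib.BenderUse.Hyp.{u} :=
  CfsgLib.BenderUse.hyp_of_split (benderUse_of_coreKills hC)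

end CfsgLib.BenderWorld
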