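import Cfsg.Agent.BenderWorld.Shape.WorldFacts
import Cfsg.Agent.LocalStructure.Cores

/-!
# Route 8: slices B, C, F give a clean world

If `Kill` makes the involutions at a point commute, then there are no configurations and the cores of
the locals with four groups are centralised by the involutions there.
-/

set_option autoImplicit false
set_option linter.style.haveILetI false

namespace CfsgLib.BenderWorld

open CfsgLib.SEmbed CfsgLib.Small

variable {G : Type*} [Group G] [Finite G] {Ω : Type*} [MulAction G Ω]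

omit [Finite G] in
/-- The involutions at each point commute. -/
def CommInvols (G : Type*) [Group G] (Ω : Type*) [MulAction G Ω] : Prop :=
  ∀ a : Ω, ∀ s ∈ invMap (G := G) a a, ∀ t ∈ invMap (G := G) a a, Commute s t

omit [Finite G] in
/-- The commutator of an element fixing `a` and an involution at `a` squares to one. -/
theorem CommInvols.sq_eq_one (hc : CommInvols G Ω) {a : Ω} {x v : G} (hx : x • a = a)
    (hv : v ∈ invMap (G := G) a a) : (x * v * x⁻¹ * v) ^ 2 = 1 := by
  have hc1 := hc a _ (conj_mem_invMap (show x ∈ MulAction.stabilizer G a from hx) hv) v hv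
  rw [hc1.mul_pow, conj_pow, show v ^ 2 = 1 from hv.1 ▸ pow_orderOf_eq_one v]
  simp

omit [Finite G] in
theorem CommInvols.noConfig (hc : CommInvols G Ω) : NoConfig G Ω := by
  intro q hq hq2 Q v a hQ
  haveI := Fact.mk hq
  obtain ⟨x, hxQ, hxv⟩ := hQ.nontriv
  have hvv : v⁻¹ = v := inv_eq_self_of_orderOf_two hQ.invol.1
  have hy : x * v * x⁻¹ * v ∈ Q := by
    have h1 : v * x⁻¹ * v⁻¹ ∈ Q :=
      (Subgroup.mem_normalizer_iff.1 hQ.normalizes x⁻¹).1 (Q.inv_mem hxQ)
    rw [hvv] at h1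
    have h2 := Q.mul_mem hxQ h1
    convert h2 using 1
    group
  obtain ⟨k, hk⟩ := hQ.isPGroup ⟨_, hy⟩
  have hk' : (x * v * x⁻¹ * v) ^ q ^ k = 1 := congrArg Subtype.val hk
  have h1 : x * v * x⁻¹ * v = 1 := orderOf_eq_one_iff.1 (Nat.eq_one_of_dvd_coprimes
    (Nat.Coprime.pow_right k ((Nat.coprime_primes Nat.prime_two hq).2 (Ne.symm hq2)))
    (orderOf_dvd_of_pow_eq_one (hc.sq_eq_one (hQ.fixes x hxQ) hQ.invol))
    (orderOf_dvd_of_pow_eq_one hk'))
  refine hxv ?_
  have h2 : x * v * x⁻¹ = v := by rw [eq_inv_of_mul_eq_one_left h1, hvv]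
  exact mul_inv_eq_iff_eq_mul.1 h2

theorem CommInvols.coreCentral (hc : CommInvols G Ω) : CoreCentral G Ω := by
  intro M hM a hR2 v hvM hv o ho
  have hoa : o • a = a := by
    have h1 := hR2.core_fix o ho 1 (one_mem M)
    rwa [one_smul] at h1
  have hy : o * v * o⁻¹ * v ∈ coreIn M := by
    obtain ⟨o', ho', rfl⟩ := ho
    refine ⟨o' * (⟨v, hvM⟩ * o'⁻¹ * ⟨v, hvM⟩⁻¹), mul_mem ho'
      ((inferInstance : (Cfsg.oddCore M).Normal).conj_mem _ (inv_mem ho') _), ?_⟩
    simp [inv_eq_self_of_orderOf_two hv.1, mul_assoc]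
  have hodd : Odd (Nat.card (coreIn M)) := by
    rw [coreIn, Subgroup.card_map_of_injective M.subtype_injective]
    exact CfsgLib.TwoGroups.odd_card_oddCore
  have h1 : o * v * o⁻¹ * v = 1 := orderOf_eq_one_iff.1 (Nat.eq_one_of_dvd_coprimes
    (Nat.coprime_two_left.2 hodd) (orderOf_dvd_of_pow_eq_one (hc.sq_eq_one hoa hv))
    (Subgroup.orderOf_dvd_natCard _ hy))
  have h2 : o * v * o⁻¹ = v := by
    rw [eq_inv_of_mul_eq_one_left h1, inv_eq_self_of_orderOf_two hv.1]
  exact mul_inv_eq_iff_eq_mul.1 h2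

/-- From slice B (configurations kill), slice C (moved cores kill) and slice F (kill makes the
involutions commute): the world is clean. -/
theorem clean_of_kill (W : World G Ω)
    (hB : ∀ q : ℕ, q.Prime → q ≠ 2 → ∀ (Q : Subgroup G) (v : G) (a : Ω),
      IsConfig q Q v a → Kill G Ω)
    (hC : ∀ M : Subgroup G, M ≠ ⊤ → ∀ a : Ω, IsR2 M a → ∀ v ∈ M, v ∈ invMap (G := G) a a →
      (∃ o ∈ coreIn M, ¬ Commute o v) → Kill G Ω)
    (hF : Kill G Ω → CommInvols G Ω) : Clean G Ω := by
  by_cases hK : Kill G Ω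
  · exact ⟨W, (hF hK).noConfig, (hF hK).coreCentral⟩
  · refine ⟨W, fun q hq hq2 Q v a hc => hK (hB q hq hq2 Q v a hc),
      fun M hM a hR2 v hvM hv o ho => ?_⟩
    by_contra hne
    exact hK (hC M hM a hR2 v hvM hv ⟨o, ho, hne⟩)

end CfsgLib.BenderWorld
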