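import Cfsg.Prelude.Def_Exceptional
import Cfsg.Prelude.Def_Solvable
import Cfsg.Prelude.Def_CaseTheorems
import Cfsg.Agent.SEmbed.Elementary

/-!
# Interface for Bender's strongly embedded theorem (route 8 of `docs/bender_route8_helper24.md`)

`World G Ω`: the minimal counterexample.  `LocalIH`: what induction gives for a proper subgroup
moving a point at which it has an involution (`IsR1`, or `IsR2` with a four group).  `IsConfig` is
a configuration, `Kill` the output of both configuration arguments.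
-/

set_option autoImplicit false

namespace CfsgLib.BenderWorld

open CfsgLib.SEmbed

variable {G : Type*} [Group G] {Ω : Type*} [MulAction G Ω]

/-- The odd core of `M`, as a subgroup of `G`. -/
def coreIn (M : Subgroup G) : Subgroup G := (Cfsg.oddCore ↥M).map M.subtype

/-- A local of 2-rank one: all of it centralizes an involution modulo the odd core. -/
def IsR1 (M : Subgroup G) : Prop :=
  ∀ v ∈ M, orderOf v = 2 → ∀ g ∈ M, ∃ o ∈ coreIn M, ∃ c ∈ M, Commute c v ∧ g = o * c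

/-- A local with a four group at `a`. -/
structure IsR2 (M : Subgroup G) (a : Ω) : Prop where
  four : ∃ V ≤ M, IsFour V ∧ ∀ v ∈ V, v • a = a
  core_fix : ∀ o ∈ coreIn M, ∀ g ∈ M, o • (g • a) = g • a
  degree : ∃ k : ℕ, 2 ≤ k ∧ Nat.card (MulAction.orbit M a) = 2 ^ k + 1
  twoClosed : ∃ U : Subgroup G, coreIn M ≤ U ∧ U ≤ M ⊓ MulAction.stabilizer G a ∧
    (∀ g ∈ M ⊓ MulAction.stabilizer G a, ∀ u ∈ U, g * u * g⁻¹ ∈ U) ∧
    (∀ u ∈ U, ∃ n : ℕ, u ^ 2 ^ n ∈ coreIn M) ∧
    (∀ g ∈ M ⊓ MulAction.stabilizer G a, ∀ n : ℕ, g ^ 2 ^ n ∈ coreIn M → g ∈ U) ∧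
    (∀ x ∈ MulAction.orbit M a, ∀ y ∈ MulAction.orbit M a, x ≠ a → y ≠ a → ∃ u ∈ U, u • x = y) ∧
    (∀ u ∈ U, ∀ i ∈ U, orderOf i = 2 → u * i * u⁻¹ * i⁻¹ ∈ coreIn M)

/-- What induction gives. -/
def LocalIH (G : Type*) [Group G] (Ω : Type*) [MulAction G Ω] : Prop :=
  ∀ M : Subgroup G, M ≠ ⊤ → ∀ a : Ω, (∃ t ∈ M, orderOf t = 2 ∧ t • a = a) →
    (∃ g ∈ M, g • a ≠ a) → IsR1 M ∨ IsR2 M a

/-- The minimal counterexample. -/
structure World (G : Type*) [Group G] (Ω : Type*) [MulAction G Ω] : Prop where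
  uf : UniqueFix G Ω
  simple : IsSimpleGroup G
  nontrivial : Nontrivial Ω
  four : ∃ V : Subgroup G, IsFour V
  maximal : ∀ a : Ω, ∀ M : Subgroup G, MulAction.stabilizer G a ≤ M →
    M = MulAction.stabilizer G a ∨ M = ⊤
  ih : LocalIH G Ω

/-- A configuration: `v` at `a` acts nontrivially on the `q`-group `Q` fixing `a`, and `N(Q)`
moves `a`. -/
structure IsConfig (q : ℕ) (Q : Subgroup G) (v : G) (a : Ω) : Prop where
  isPGroup : IsPGroup q Q
  invol : v ∈ invMap (G := G) a a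
  normalizes : v ∈ Subgroup.normalizer (Q : Set G)
  nontriv : ∃ x ∈ Q, ¬ Commute x v
  fixes : ∀ x ∈ Q, x • a = a
  moves : ∃ g ∈ Subgroup.normalizer (Q : Set G), g • a ≠ a

/-- A proper subgroup containing a pair stabilizer and moving one of the points, at which it
has an involution. -/
def Kill (G : Type*) [Group G] (Ω : Type*) [MulAction G Ω] : Prop :=
  ∃ M : Subgroup G, M ≠ ⊤ ∧ ∃ a b : Ω, a ≠ b ∧ pairStab G a b ≤ M ∧
    (∃ t ∈ M, t ∈ invMap (G := G) a a) ∧ ∃ g ∈ M, g • a ≠ a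

/-- The number `m` of involutions fixing a point. -/
noncomputable def numInv (G : Type*) [Group G] {Ω : Type*} [MulAction G Ω] (a : Ω) : ℕ :=
  Nat.card (invMap (G := G) a a)

/-- Route 8, A and B: no configurations at all. -/
def NoConfig (G : Type*) [Group G] (Ω : Type*) [MulAction G Ω] : Prop :=
  ∀ q : ℕ, q.Prime → q ≠ 2 → ∀ (Q : Subgroup G) (v : G) (a : Ω), ¬ IsConfig q Q v a

end CfsgLib.BenderWorld
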