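import Cfsg.Agent.BenderWorld.Defs
import Cfsg.Agent.BenderUse.Main
import Cfsg.Agent.BenderWorld.Split
import Cfsg.Agent.SuzukiTheorem.TheoremO
import Cfsg.Agent.CharactersDeep.NormalComplement
import Cfsg.Agent.SEmbed.RankOneBridge
import Cfsg.Agent.SuzukiTheorem.Classification

/-!
# Assembly of Bender's strongly embedded theorem (route 8)

* `classification_of_fusion`: a doubly transitive world in which the two point stabilizer is a Hall
  subgroup of the point stabilizer, controls its fusion and contains all elementary subgroups of its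
  own order type is one of the three families (Brauer-Suzuki complement, then the rank one
  classification).
* `classification_of_centralizers`: the same from the shape of the centralizers of the elements of
  the two point stabilizer.
* `hyp_of_worlds`: Bender's theorem for simple groups from the treatment of the minimal
  counterexample.
-/

set_option autoImplicit false
set_option linter.style.haveILetI false

namespace CfsgLib.BenderWorld

open CfsgLib.SEmbed

/-- The conclusion of Bender's theorem. -/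
def Families (G : Type*) [Group G] : Prop :=
  (∃ (F : Type) (_ : Field F) (_ : Fintype F), CharP F 2 ∧ 4 ≤ Fintype.card F ∧
      Nonempty (G ≃* Matrix.ProjectiveSpecialLinearGroup (Fin 2) F)) ∨
    Cfsg.IsSuzuki G ∨
    (∃ (F : Type) (_ : Field F) (_ : Fintype F) (q : ℕ), Fintype.card F = q ^ 2 ∧ Even q ∧
      4 ≤ q ∧ Nonempty (G ≃* Cfsg.PSU 3 F q))

universe u v

variable {G : Type u} [Group G] [Finite G] {Ω : Type v} [MulAction G Ω]

theorem isStronglyEmbedded_stabilizer (h : UniqueFix G Ω) [Nontrivial Ω] (a : Ω) :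
    Cfsg.IsStronglyEmbedded (MulAction.stabilizer G a) := by
  refine ⟨fun htop => ?_, ?_, fun g hg => ?_⟩
  · obtain ⟨x, hx⟩ := exists_ne a
    obtain ⟨g, hg⟩ := h.transitive a x
    have hga : g ∈ MulAction.stabilizer G a := htop ▸ Subgroup.mem_top g
    exact hx (hg.symm.trans hga)
  · obtain ⟨i, hi, hia⟩ := h.exists_inv a
    refine even_iff_two_dvd.2 (hi ▸ ?_)
    exact Subgroup.orderOf_dvd_natCard _ (show i ∈ MulAction.stabilizer G a from hia)
  · have hne : a ≠ g • a := fun e => hg e.symm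
    have e : MulAction.stabilizer G a ⊓
        (MulAction.stabilizer G a).map (MulAut.conj g).toMonoidHom = pairStab G a (g • a) := by
      ext x
      rw [Subgroup.mem_inf, mem_pairStab, MulAction.mem_stabilizer_iff]
      refine and_congr_right fun _ => ⟨?_, fun hx => ⟨g⁻¹ * x * g, ?_, by simp [mul_assoc]⟩⟩
      · rintro ⟨k, hk, rfl⟩
        have hk' : k • a = a := hk
        simp [mul_smul, hk']
      · show (g⁻¹ * x * g) • a = a
        rw [mul_smul, mul_smul, hx, inv_smul_smul]
    rw [e]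
    exact odd_pairStab h hne

/-- **Route 8, end**: the Brauer-Suzuki complement is regular on the other points. -/
theorem exists_regular_of_fusion (_W : World G Ω) {a b : Ω} (hab : a ≠ b)
    (htr : ∀ x, x ≠ a → ∃ g ∈ MulAction.stabilizer G a, g • b = x)
    (hHall : Nat.Coprime (Nat.card (pairStab G a b)) (Nat.card {x : Ω // x ≠ a}))
    (hfus : ∀ x ∈ pairStab G a b, ∀ g ∈ MulAction.stabilizer G a, g * x * g⁻¹ ∈ pairStab G a b →
      ∃ d ∈ pairStab G a b, d * x * d⁻¹ = g * x * g⁻¹)
    (helem : ∀ (E : Subgroup G) (p : ℕ), E ≤ MulAction.stabilizer G a → p.Prime →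
      Cfsg.IsElementary p E → Nat.card E ∣ Nat.card (pairStab G a b) →
      ∃ x, x ≠ a ∧ ∀ e ∈ E, e • x = x) :
    ∃ Q : Subgroup G, Q ≤ MulAction.stabilizer G a ∧
      (Q.subgroupOf (MulAction.stabilizer G a)).Normal ∧
      (∀ g₁ g₂ : G, g₁ ∉ MulAction.stabilizer G a → g₂ ∉ MulAction.stabilizer G a →
        ∃ u ∈ Q, g₂⁻¹ * (u * g₁) ∈ MulAction.stabilizer G a) ∧
      ∀ g : G, g ∉ MulAction.stabilizer G a → ∀ u ∈ Q,
        g⁻¹ * (u * g) ∈ MulAction.stabilizer G a → u = 1 := by
  classical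
  set H := MulAction.stabilizer G a with hHdef
  haveI : Fintype H := Fintype.ofFinite H
  set D : Subgroup H := (pairStab G a b).subgroupOf H with hDdef
  have hDH : pairStab G a b ≤ H := inf_le_left
  have hcard : Nat.card D = Nat.card (pairStab G a b) :=
    Nat.card_congr (Subgroup.subgroupOfEquivOfLe hDH).toEquiv
  have hstab : MulAction.stabilizer H b = D := by
    ext g
    rw [hDdef, Subgroup.mem_subgroupOf, mem_pairStab, MulAction.mem_stabilizer_iff]
    exact ⟨fun hg => ⟨g.2, hg⟩, fun hg => hg.2⟩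
  have hindex : D.index = Nat.card {x : Ω // x ≠ a} := by
    rw [← hstab, MulAction.index_stabilizer, ← Nat.card_coe_set_eq]
    refine Nat.card_congr (Equiv.subtypeEquivRight fun x => ⟨?_, fun hx => ?_⟩)
    · rintro ⟨g, rfl⟩ e
      refine hab (MulAction.injective (g : G) ?_)
      exact (show (g : G) • a = a from g.2).trans e.symm
    · obtain ⟨g, hg, hgx⟩ := htr x hx
      exact ⟨⟨g, hg⟩, hgx⟩
  obtain ⟨K, hKn, hsup, hinf⟩ :=
    CfsgLib.CharactersDeep.NormalComplement.exists_normal_complement (H := D)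
      (by rw [hcard, hindex]; exact hHall)
      (fun x hx y hy hxy => by
        obtain ⟨g, hg⟩ := isConj_iff.1 hxy
        have hg' : (g : G) * x * (g : G)⁻¹ = (y : G) := congrArg Subtype.val hg
        obtain ⟨d, hd, hdx⟩ := hfus x hx g g.2 (hg'.symm ▸ hy)
        exact ⟨⟨d, hDH hd⟩, hd, Subtype.ext (hdx.trans hg')⟩)
      (fun E p hp hE hdvd => by
        obtain ⟨x, hxa, hx⟩ := helem (E.map H.subtype) p
          (Subgroup.map_subtype_le E) hp
          (by
            obtain ⟨z, hz, hzo, k, hk⟩ := hE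
            let φ := E.equivMapOfInjective H.subtype H.subtype_injective
            refine ⟨φ z, ?_, by rwa [MulEquiv.orderOf_eq], k, ?_⟩
            · rw [Subgroup.mem_center_iff] at hz ⊢
              intro y
              obtain ⟨y, rfl⟩ := φ.surjective y
              rw [← map_mul, ← map_mul, hz y]
            · rw [← hk, ← Subgroup.index_map_equiv _ φ, MonoidHom.map_zpowers]; rfl)
          (by rwa [Subgroup.card_map_of_injective H.subtype_injective, ← hcard])
        obtain ⟨g, hg, rfl⟩ := htr x hxa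
        refine ⟨⟨g, hg⟩⁻¹, ?_⟩
        rintro _ ⟨e, he, rfl⟩
        rw [hDdef, Subgroup.mem_subgroupOf, mem_pairStab]
        refine ⟨(((MulAut.conj (⟨g, hg⟩⁻¹ : H)).toMonoidHom e) : H).2, ?_⟩
        have := hx _ ⟨e, he, rfl⟩
        simp only [Subgroup.coe_subtype] at this
        simp only [MulEquiv.coe_toMonoidHom, MulAut.conj_apply, inv_inv, Subgroup.coe_mul,
          Subgroup.coe_inv, mul_smul, this, inv_smul_smul])
  -- the complement is transitive and regular
  have hmem : ∀ g : G, g ∉ H → ∃ u : H, u ∈ K ∧ (u : G) • b = g • a := by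
    intro g hg
    obtain ⟨h, hh, hhx⟩ := htr (g • a) hg
    have hm : (⟨h, hh⟩ : H) ∈ K ⊔ D := hsup.symm ▸ Subgroup.mem_top _
    rw [← SetLike.mem_coe, Subgroup.normal_mul] at hm
    obtain ⟨u, hu, d, hd, hud⟩ := hm
    refine ⟨u, hu, ?_⟩
    have hdb : (d : G) • b = b := (mem_pairStab.1 hd).2
    rw [← hhx, show h = (u : G) * d from (congrArg Subtype.val hud).symm, mul_smul, hdb]
  refine ⟨K.map H.subtype, Subgroup.map_subtype_le K, ?_, ?_, ?_⟩
  · rw [Subgroup.subgroupOf, Subgroup.comap_map_eq_self_of_injective H.subtype_injective]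
    exact hKn
  · intro g₁ g₂ h₁ h₂
    obtain ⟨u₁, hu₁, e₁⟩ := hmem g₁ h₁
    obtain ⟨u₂, hu₂, e₂⟩ := hmem g₂ h₂
    refine ⟨(u₂ : G) * (u₁ : G)⁻¹, ⟨u₂ * u₁⁻¹, mul_mem hu₂ (inv_mem hu₁), rfl⟩, ?_⟩
    show (g₂⁻¹ * ((u₂ : G) * (u₁ : G)⁻¹ * g₁)) • a = a
    rw [mul_smul, mul_smul, mul_smul, ← e₁, inv_smul_smul, e₂, inv_smul_smul]
  · rintro g hg _ ⟨u, hu, rfl⟩ hug
    obtain ⟨u₀, hu₀, e⟩ := hmem g hg
    have hfix : (u : G) • ((u₀ : G) • b) = (u₀ : G) • b := by
      rw [e]
      have h1 : (g⁻¹ * ((u : G) * g)) • a = a := hug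
      rwa [mul_smul, mul_smul, inv_smul_eq_iff] at h1
    have h1 : u₀⁻¹ * u * u₀ ∈ K ⊓ D := by
      refine Subgroup.mem_inf.2 ⟨mul_mem (mul_mem (inv_mem hu₀) hu) hu₀, ?_⟩
      rw [← hstab]
      show ((u₀⁻¹ * u * u₀ : H) : G) • b = b
      simp only [Subgroup.coe_mul, Subgroup.coe_inv, mul_smul, hfix, inv_smul_smul]
    rw [hinf, Subgroup.mem_bot, mul_eq_one_iff_eq_inv, mul_eq_left] at h1
    simp [h1]

/-- A regular normal subgroup gives the three families. -/
theorem families_of_regular [IsSimpleGroup G] {H : Subgroup G} (hH : Cfsg.IsStronglyEmbedded H)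
    (h : ∃ Q : Subgroup G, Q ≤ H ∧ (Q.subgroupOf H).Normal ∧
      (∀ g₁ g₂ : G, g₁ ∉ H → g₂ ∉ H → ∃ u ∈ Q, g₂⁻¹ * (u * g₁) ∈ H) ∧
      ∀ g : G, g ∉ H → ∀ u ∈ Q, g⁻¹ * (u * g) ∈ H → u = 1) : Families G := by
  obtain ⟨Q, hQH, hQn, htr, hreg⟩ := h
  exact CfsgLib.SEmbed.classification_of_rankOne
    (fun _ _ _ _ _ _ _ _ _ hS h2 => CfsgLib.SuzukiThm.rank_one_classification hS h2)
    H hH Q hQH hQn htr hreg

/-- A regular normal subgroup is a 2-group: `H` splits. -/
theorem split_of_regular [IsSimpleGroup G] {H : Subgroup G} (hH : Cfsg.IsStronglyEmbedded H)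
    (h : ∃ Q : Subgroup G, Q ≤ H ∧ (Q.subgroupOf H).Normal ∧
      (∀ g₁ g₂ : G, g₁ ∉ H → g₂ ∉ H → ∃ u ∈ Q, g₂⁻¹ * (u * g₁) ∈ H) ∧
      ∀ g : G, g ∉ H → ∀ u ∈ Q, g⁻¹ * (u * g) ∈ H → u = 1) : Split H := by
  obtain ⟨Q, hQH, hQn, htr, hreg⟩ := h
  haveI := CfsgLib.SEmbed.faithfulSMul_cosets hH.1
  obtain ⟨t, hS⟩ := CfsgLib.SEmbed.exists_rankOne_setup H hH Q hQH hQn htr hreg
  exact ⟨Q, hQH, CfsgLib.SuzukiThm.two_group_Q hS (CfsgLib.SEmbed.exists_commuting_invols hH),
    hQn, htr⟩

/-- The conclusion of `exists_regular_of_fusion` read as the three families. -/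
theorem classification_of_fusion (W : World G Ω) {a b : Ω} (hab : a ≠ b)
    (htr : ∀ x, x ≠ a → ∃ g ∈ MulAction.stabilizer G a, g • b = x)
    (hHall : Nat.Coprime (Nat.card (pairStab G a b)) (Nat.card {x : Ω // x ≠ a}))
    (hfus : ∀ x ∈ pairStab G a b, ∀ g ∈ MulAction.stabilizer G a, g * x * g⁻¹ ∈ pairStab G a b →
      ∃ d ∈ pairStab G a b, d * x * d⁻¹ = g * x * g⁻¹)
    (helem : ∀ (E : Subgroup G) (p : ℕ), E ≤ MulAction.stabilizer G a → p.Prime →
      Cfsg.IsElementary p E → Nat.card E ∣ Nat.card (pairStab G a b) →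
      ∃ x, x ≠ a ∧ ∀ e ∈ E, e • x = x) :
    Families G :=
  haveI := W.simple
  haveI := W.nontrivial
  families_of_regular (isStronglyEmbedded_stabilizer W.uf a)
    (exists_regular_of_fusion W hab htr hHall hfus helem)

/-- The points other than `a` fixed by `z`. -/
def otherFix (z : G) (a : Ω) : Set Ω := {x | x ≠ a ∧ z • x = x}

omit [Finite G] in
theorem mem_otherFix {z : G} {a x : Ω} : x ∈ otherFix z a ↔ x ≠ a ∧ z • x = x := Iff.rfl

omit [Finite G] in
/-- A `p`-group centralizing `z` at `a` has a fixed point among the others fixed by `z`, if their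
number is prime to `p`. -/
theorem exists_common_fix {p : ℕ} [Fact p.Prime] {P : Subgroup G} (hP : IsPGroup p P) {a : Ω}
    (hPa : P ≤ MulAction.stabilizer G a) {z : G} (hz : ∀ y ∈ P, Commute y z)
    (hn : ¬ p ∣ Nat.card (otherFix z a)) :
    ∃ x, x ≠ a ∧ z • x = x ∧ ∀ y ∈ P, y • x = x := by
  let S : SubMulAction P Ω :=
    { carrier := otherFix z a
      smul_mem' := fun y x hx => by
        refine ⟨fun e => hx.1 (MulAction.injective (y : G) ?_), ?_⟩
        · exact e.trans (show (y : G) • a = a from hPa y.2).symm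
        · show z • ((y : G) • x) = (y : G) • x
          rw [smul_smul, ← (hz y y.2).eq, mul_smul, hx.2] }
  obtain ⟨x, hx⟩ := hP.nonempty_fixed_point_of_prime_not_dvd_card S hn
  exact ⟨x, x.2.1, x.2.2, fun y hy => congrArg Subtype.val (hx ⟨y, hy⟩)⟩

/-- **Route 8, end, from the centralizers**: for the non-identity elements of the two point stabilizer
the centralizer at `a` is transitive on the other fixed points, whose number is a power of two. -/
theorem exists_regular_of_centralizers (W : World G Ω) {a b : Ω} (hab : a ≠ b)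
    (htr : ∀ x, x ≠ a → ∃ g ∈ MulAction.stabilizer G a, g • b = x)
    (hHall : Nat.Coprime (Nat.card (pairStab G a b)) (Nat.card {x : Ω // x ≠ a}))
    (htrans : ∀ x ∈ pairStab G a b, x ≠ 1 → ∀ c, c ≠ a → x • c = c →
      ∃ g ∈ MulAction.stabilizer G a, Commute g x ∧ g • b = c)
    (hpow : ∀ x ∈ pairStab G a b, x ≠ 1 → ∃ k : ℕ, Nat.card (otherFix x a) = 2 ^ k) :
    ∃ Q : Subgroup G, Q ≤ MulAction.stabilizer G a ∧
      (Q.subgroupOf (MulAction.stabilizer G a)).Normal ∧
      (∀ g₁ g₂ : G, g₁ ∉ MulAction.stabilizer G a → g₂ ∉ MulAction.stabilizer G a →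
        ∃ u ∈ Q, g₂⁻¹ * (u * g₁) ∈ MulAction.stabilizer G a) ∧
      ∀ g : G, g ∉ MulAction.stabilizer G a → ∀ u ∈ Q,
        g⁻¹ * (u * g) ∈ MulAction.stabilizer G a → u = 1 := by
  classical
  have hodd : Odd (Nat.card (pairStab G a b)) := odd_pairStab W.uf hab
  -- the counting hypothesis at every point of the orbit
  have hndvd : ∀ p : ℕ, p.Prime → p ∣ Nat.card (pairStab G a b) →
      ∀ z ∈ MulAction.stabilizer G a, (∃ x, x ≠ a ∧ z • x = x) →
        ¬ p ∣ Nat.card (otherFix z a) := by
    rintro p hp hpD z hz ⟨x, hxa, hzx⟩ hdvd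
    rcases eq_or_ne z 1 with rfl | hz1
    · have : Nat.card (otherFix (1 : G) a) = Nat.card {x : Ω // x ≠ a} :=
        Nat.card_congr (Equiv.subtypeEquivRight fun y => ⟨fun hy => hy.1, fun hy => ⟨hy, one_smul G y⟩⟩)
      exact hp.not_dvd_one (hHall ▸ Nat.dvd_gcd hpD (this ▸ hdvd))
    obtain ⟨g, hg, rfl⟩ := htr x hxa
    have hga : g • a = a := hg
    have hza : z • a = a := hz
    have hzD : g⁻¹ * z * g ∈ pairStab G a b := mem_pairStab.2
      ⟨by rw [mul_smul, mul_smul, hga, hza, inv_smul_eq_iff, hga],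
        by rw [mul_smul, mul_smul, hzx, inv_smul_smul]⟩
    obtain ⟨k, hk⟩ := hpow _ hzD (fun e => hz1 (by
      rw [show z = g * (g⁻¹ * z * g) * g⁻¹ by group, e]; group))
    have e : Nat.card (otherFix z a) = 2 ^ k := by
      rw [← hk]
      refine Nat.card_congr (Equiv.subtypeEquiv (MulAction.toPerm g⁻¹) fun y => ?_)
      simp only [MulAction.toPerm_apply, mem_otherFix, mul_smul, smul_inv_smul,
        smul_left_cancel_iff, ne_eq, inv_smul_eq_iff, hga]
    rw [e] at hdvd
    have h2 := (Nat.prime_dvd_prime_iff_eq hp Nat.prime_two).1 (hp.dvd_of_dvd_pow hdvd)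
    exact Nat.not_even_iff_odd.2 hodd (even_iff_two_dvd.2 (h2 ▸ hpD))
  refine exists_regular_of_fusion W hab htr hHall ?_ ?_
  · intro x hx g hg hgx
    rcases eq_or_ne x 1 with rfl | hx1
    · exact ⟨1, one_mem _, by simp⟩
    have hga : g • a = a := hg
    have hgb : x • (g⁻¹ • b) = g⁻¹ • b := by
      have := (mem_pairStab.1 hgx).2
      rwa [mul_smul, mul_smul, smul_eq_iff_eq_inv_smul] at this
    obtain ⟨c, hc, hcx, hcb⟩ := htrans x hx hx1 (g⁻¹ • b) (fun e => hab (by
      rw [inv_smul_eq_iff, hga] at e; exact e.symm)) hgb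
    refine ⟨g * c, mem_pairStab.2 ⟨?_, by rw [mul_smul, hcb, smul_inv_smul]⟩, ?_⟩
    · rw [mul_smul, show c • a = a from hc, hga]
    · calc g * c * x * (g * c)⁻¹ = g * (c * x * c⁻¹) * g⁻¹ := by group
        _ = g * x * g⁻¹ := by rw [hcx.eq, mul_inv_cancel_right]
  · intro E p hE hp hEel hdvd
    haveI : Fact p.Prime := ⟨hp⟩
    -- every element whose order divides `|D|` has a further fixed point
    have hfix : ∀ n, ∀ z ∈ MulAction.stabilizer G a, orderOf z = n →
        n ∣ Nat.card (pairStab G a b) → ∃ x, x ≠ a ∧ z • x = x := by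
      intro n
      induction n using Nat.strong_induction_on with
      | _ n ih =>
        intro z hz hzn hn
        by_cases hn1 : n = 1
        · exact ⟨b, hab.symm, by rw [orderOf_eq_one_iff.1 (hzn.trans hn1), one_smul]⟩
        obtain ⟨q, hq, hqn⟩ := Nat.exists_prime_and_dvd hn1
        haveI : Fact q.Prime := ⟨hq⟩
        have hn0 : n ≠ 0 := hzn ▸ (orderOf_pos z).ne'
        have hmul : q ^ n.factorization q * (n / q ^ n.factorization q) = n :=
          Nat.ordProj_mul_ordCompl_eq_self n q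
        set m := n / q ^ n.factorization q with hm
        set e := q ^ n.factorization q with he
        have he1 : 1 < e := Nat.one_lt_pow (hq.factorization_pos_of_dvd hn0 hqn).ne' hq.one_lt
        have hm0 : m ≠ 0 := fun h => hn0 (by rw [← hmul, h, mul_zero])
        have ho : orderOf (z ^ e) = m := by
          rw [orderOf_pow' _ (by omega), hzn, Nat.gcd_eq_right (Dvd.intro m hmul), ← hmul,
            Nat.mul_div_cancel_left _ (by omega)]
        have ho' : orderOf (z ^ m) = e := by
          rw [orderOf_pow' _ hm0, hzn, Nat.gcd_eq_right (Dvd.intro_left e hmul), ← hmul,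
            Nat.mul_div_cancel _ (Nat.pos_of_ne_zero hm0)]
        obtain ⟨x, hxa, hx⟩ := ih m (lt_of_lt_of_eq (lt_mul_left
          (Nat.pos_of_ne_zero hm0) he1) hmul) (z ^ e) (pow_mem hz e) ho
          ((Dvd.intro_left e hmul).trans hn)
        obtain ⟨c, hca, hc, hcy⟩ := exists_common_fix (p := q)
          (P := Subgroup.zpowers (z ^ m)) (a := a) (z := z ^ e)
          (IsPGroup.of_card (by rw [Nat.card_zpowers, ho']))
          ((Subgroup.zpowers_le).2 (pow_mem hz m))
          (fun y hy => by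
            obtain ⟨i, rfl⟩ := Subgroup.mem_zpowers_iff.1 hy
            exact ((Commute.refl z).pow_pow m e).zpow_left i)
          (hndvd q hq (hqn.trans hn) _ (pow_mem hz e) ⟨x, hxa, hx⟩)
        refine ⟨c, hca, ?_⟩
        have hmem : z ∈ MulAction.stabilizer G c := by
          have hc1 : z ^ (e : ℤ) ∈ MulAction.stabilizer G c := by rw [zpow_natCast]; exact hc
          have hc2 : z ^ (m : ℤ) ∈ MulAction.stabilizer G c := by
            rw [zpow_natCast]; exact hcy _ (Subgroup.mem_zpowers _)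
          have hco : Nat.Coprime e m :=
            Nat.Coprime.pow_left _ (Nat.coprime_ordCompl hq hn0)
          have := Nat.gcd_eq_gcd_ab e m
          rw [hco.gcd_eq_one] at this
          rw [← zpow_one z, show (1 : ℤ) = (e : ℤ) * Nat.gcdA e m + (m : ℤ) * Nat.gcdB e m by
            exact_mod_cast this, zpow_add, zpow_mul, zpow_mul]
          exact mul_mem (zpow_mem hc1 _) (zpow_mem hc2 _)
        exact hmem
    obtain ⟨z, hzc, hzp, k, hk⟩ := hEel
    have hcard : Nat.card E = orderOf (z : G) * p ^ k := by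
      rw [← hk, ← (Subgroup.zpowers z).card_mul_index, Nat.card_zpowers, Subgroup.orderOf_coe]
    obtain ⟨x, hxa, hzx⟩ := hfix _ z (hE z.2) rfl ((Dvd.intro _ hcard.symm).trans hdvd)
    -- a Sylow subgroup of `E`
    let S : Sylow p E := default
    have key : ∃ c, c ≠ a ∧ (z : G) • c = c ∧ ∀ y ∈ (S : Subgroup E), (y : G) • c = c := by
      rcases Nat.eq_zero_or_pos k with rfl | hk0
      · refine ⟨x, hxa, hzx, fun y hy => ?_⟩
        obtain ⟨i, hi⟩ : y ∈ Subgroup.zpowers z := by
          rw [Subgroup.index_eq_one.1 (hk.trans (pow_zero p))]; trivial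
        subst hi
        exact Subgroup.zpow_mem (MulAction.stabilizer G x) hzx i
      have hpD : p ∣ Nat.card (pairStab G a b) :=
        ((dvd_pow_self p hk0.ne').trans (Dvd.intro_left _ hcard.symm)).trans hdvd
      obtain ⟨c, hca, hc, hcy⟩ := exists_common_fix (P := (S : Subgroup E).map E.subtype)
        (S.2.map _) ((Subgroup.map_subtype_le _).trans hE) (z := z)
        (by
          rintro _ ⟨y, -, rfl⟩
          exact congrArg Subtype.val (Subgroup.mem_center_iff.1 hzc y))
        (hndvd p hp hpD _ (hE z.2) ⟨x, hxa, hzx⟩)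
      exact ⟨c, hca, hc, fun y hy => hcy _ ⟨y, hy, rfl⟩⟩
    obtain ⟨c, hca, hc, hcS⟩ := key
    refine ⟨c, hca, fun e he => ?_⟩
    suffices (MulAction.stabilizer G c).subgroupOf E = ⊤ by
      have h1 : (⟨e, he⟩ : E) ∈ (MulAction.stabilizer G c).subgroupOf E := this ▸ Subgroup.mem_top _
      exact h1
    refine Subgroup.eq_top_of_card_eq _ (Nat.dvd_antisymm (Subgroup.card_subgroup_dvd_card _) ?_)
    rw [hcard, Subgroup.orderOf_coe]
    refine (hzp.pow_right k).mul_dvd_of_dvd_of_dvd
      (Subgroup.orderOf_dvd_natCard _ (show z ∈ (MulAction.stabilizer G c).subgroupOf E from hc)) ?_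
    refine (S.pow_dvd_card_of_pow_dvd_card ?_).trans
      (Subgroup.card_dvd_of_le fun y hy => hcS y hy)
    exact Dvd.intro_left _ hcard.symm

/-- `exists_regular_of_centralizers` read as the three families. -/
theorem classification_of_centralizers (W : World G Ω) {a b : Ω} (hab : a ≠ b)
    (htr : ∀ x, x ≠ a → ∃ g ∈ MulAction.stabilizer G a, g • b = x)
    (hHall : Nat.Coprime (Nat.card (pairStab G a b)) (Nat.card {x : Ω // x ≠ a}))
    (htrans : ∀ x ∈ pairStab G a b, x ≠ 1 → ∀ c, c ≠ a → x • c = c →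
      ∃ g ∈ MulAction.stabilizer G a, Commute g x ∧ g • b = c)
    (hpow : ∀ x ∈ pairStab G a b, x ≠ 1 → ∃ k : ℕ, Nat.card (otherFix x a) = 2 ^ k) :
    Families G :=
  haveI := W.simple
  haveI := W.nontrivial
  families_of_regular (isStronglyEmbedded_stabilizer W.uf a)
    (exists_regular_of_centralizers W hab htr hHall htrans hpow)

/-- Bender's theorem for the simple groups of smaller order. -/
def Smaller (G : Type u) [Group G] : Prop :=
  ∀ (L : Type u) [Group L] [Finite L] [IsSimpleGroup L], Nat.card L < Nat.card G →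
    (∃ x y : L, x * y ≠ y * x) → ∀ H : Subgroup L, Cfsg.IsStronglyEmbedded H → Families L

/-- **Bender's theorem for simple groups** from the treatment of a minimal counterexample. -/
theorem hyp_of_worlds
    (hloc : ∀ (G : Type u) [Group G] [Finite G] [IsSimpleGroup G], Smaller G →
      ∀ H : Subgroup G, Cfsg.IsStronglyEmbedded H → LocalIH G (G ⧸ H))
    (hfin : ∀ (G : Type u) [Group G] [Finite G] (Ω : Type u) [MulAction G Ω],
      World G Ω → Families G) :
    CfsgLib.BenderUse.Hyp.{u} := by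
  suffices ∀ n, ∀ (G : Type u) [Group G] [Finite G] [IsSimpleGroup G], Nat.card G = n →
      (∃ x y : G, x * y ≠ y * x) → ∀ H : Subgroup G, Cfsg.IsStronglyEmbedded H → Families G from
    fun G _ _ _ hna H hH => this _ G rfl hna H hH
  intro n
  induction n using Nat.strong_induction_on with
  | _ n ih =>
    intro G _ _ _ hn hna H₀ hH₀
    have hsmall : Smaller G := fun L _ _ _ hL => ih _ (hn ▸ hL) L rfl
    -- a maximal strongly embedded subgroup
    obtain ⟨H, hHH, hmax⟩ := Set.Finite.exists_le_maximal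
      (Set.toFinite {M : Subgroup G | H₀ ≤ M ∧ M ≠ ⊤}) (show H₀ ∈ {M | H₀ ≤ M ∧ M ≠ ⊤} from
        ⟨le_rfl, hH₀.1⟩)
    have hH : Cfsg.IsStronglyEmbedded H := by
      rcases eq_or_lt_of_le hHH with rfl | hlt
      · exact hH₀
      have huf := uniqueFix hH₀
      have heven : Even (Nat.card H) := even_iff_two_dvd.2
        ((even_iff_two_dvd.1 hH₀.2.1).trans (Subgroup.card_dvd_of_le hHH))
      -- involutions of `H` at two points: all of them are conjugate in `H`
      obtain ⟨t, htH, ht⟩ := CfsgLib.Small.exists_invol_mem hH₀.2.1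
      obtain ⟨c, hcH, hc⟩ := SetLike.exists_of_lt hlt
      have hfix : t • ((1 : G) : G ⧸ H₀) = ((1 : G) : G ⧸ H₀) := (smul_one_eq_iff H₀ t).2 htH
      have hfix' : (c * t * c⁻¹) • ((c : G) : G ⧸ H₀) = ((c : G) : G ⧸ H₀) := by
        rw [smul_mk_eq_iff]; simpa [mul_assoc] using htH
      have hne : ((1 : G) : G ⧸ H₀) ≠ ((c : G) : G ⧸ H₀) := fun e => hc (by
        simpa using QuotientGroup.eq.1 e)
      have hconj : ∀ i ∈ H, orderOf i = 2 → ∃ m ∈ H, m * t * m⁻¹ = i := fun i hi hio =>
        isConj_in huf (hHH htH) (mul_mem (mul_mem hcH (hHH htH)) (inv_mem hcH)) ht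
          (by rw [CfsgLib.Small.orderOf_conj_eq, ht]) hfix hfix' hne (hHH htH) hi ht hio
      refine (CfsgLib.Small.isStronglyEmbedded_iff hmax.prop.2 heven).2 fun i hi hio g hg => ?_
      obtain ⟨m, hm, rfl⟩ := hconj i hi hio
      obtain ⟨m', hm', hm'e⟩ := hconj _ hg (by
        have := CfsgLib.Small.orderOf_conj_eq g⁻¹ (m * t * m⁻¹)
        rwa [inv_inv, hio] at this)
      have hcomm : Commute (m⁻¹ * g * m') t := by
        show m⁻¹ * g * m' * t = t * (m⁻¹ * g * m')
        calc m⁻¹ * g * m' * t = m⁻¹ * g * (m' * t * m'⁻¹) * m' := by group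
          _ = t * (m⁻¹ * g * m') := by rw [hm'e]; group
      have hin : m⁻¹ * g * m' ∈ H :=
        hHH ((smul_one_eq_iff H₀ _).1 (commute_fix huf ht hcomm hfix))
      simpa [mul_assoc] using H.mul_mem (H.mul_mem hm hin) (H.inv_mem hm')
    by_cases hV : ∃ V : Subgroup G, IsFour V
    · refine hfin G (G ⧸ H) ⟨uniqueFix hH, inferInstance, nontrivial_cosets hH, hV, ?_,
        hloc G hsmall H hH⟩
      intro x M hM
      obtain ⟨g, rfl⟩ := QuotientGroup.mk_surjective x
      by_cases hMtop : M = ⊤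
      · exact Or.inr hMtop
      refine Or.inl (le_antisymm ?_ hM)
      intro y hy
      have hle : H ≤ M.map (MulAut.conj g⁻¹).toMonoidHom := fun h hh => by
        refine ⟨g * h * g⁻¹, hM ?_, by simp [mul_assoc]⟩
        rw [MulAction.mem_stabilizer_iff, smul_mk_eq_iff]
        simpa [mul_assoc] using hh
      have := hmax.le_of_ge ⟨hHH.trans hle, fun e => hMtop (by
        rw [eq_top_iff]
        intro z _
        have hz : g⁻¹ * z * g ∈ M.map (MulAut.conj g⁻¹).toMonoidHom := e ▸ Subgroup.mem_top _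
        obtain ⟨w, hw, hwz⟩ := hz
        simp only [MulEquiv.coe_toMonoidHom, MulAut.conj_apply, inv_inv,
          mul_left_inj, mul_right_inj] at hwz
        exact hwz ▸ hw)⟩ hle
      rw [MulAction.mem_stabilizer_iff, smul_mk_eq_iff]
      exact this ⟨y, hy, by simp [mul_assoc]⟩
    · push Not at hV
      have h := CfsgLib.BenderUse.oddCore_sup_eq_top hH hV
      rcases (inferInstance : (Cfsg.oddCore G).Normal).eq_bot_or_eq_top with h0 | h0
      · rw [h0, bot_sup_eq] at h
        exact absurd h hH.1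
      · have hodd : Odd (Nat.card G) := by
          have := CfsgLib.TwoGroups.odd_card_oddCore (G := G)
          rwa [h0, Subgroup.card_top] at this
        exact absurd (even_iff_two_dvd.2 ((even_iff_two_dvd.1 hH.2.1).trans
          (Subgroup.card_subgroup_dvd_card H))) (Nat.not_even_iff_odd.2 hodd)

/-- **Bender's theorem for simple groups**, and with it S1220 and S1221
(`BenderUse.transitive_or_rankOne`, `BenderUse.oddCore_le_oddCore`), from the local induction and the
shape of the centralizers in a world. -/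
theorem hyp_of_centralizers
    (hloc : ∀ (G : Type u) [Group G] [Finite G] [IsSimpleGroup G], Smaller G →
      ∀ H : Subgroup G, Cfsg.IsStronglyEmbedded H → LocalIH G (G ⧸ H))
    (hshape : ∀ (G : Type u) [Group G] [Finite G] (Ω : Type u) [MulAction G Ω], World G Ω →
      ∀ a b : Ω, a ≠ b →
        (∀ x, x ≠ a → ∃ g ∈ MulAction.stabilizer G a, g • b = x) ∧
        Nat.Coprime (Nat.card (pairStab G a b)) (Nat.card {x : Ω // x ≠ a}) ∧
        ∀ x ∈ pairStab G a b, x ≠ 1 →
          (∀ c, c ≠ a → x • c = c → ∃ g ∈ MulAction.stabilizer G a, Commute g x ∧ g • b = c) ∧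
          ∃ k : ℕ, Nat.card (otherFix x a) = 2 ^ k) :
    CfsgLib.BenderUse.Hyp.{u} :=
  hyp_of_worlds hloc fun G _ _ Ω _ W => by
    haveI := W.nontrivial
    obtain ⟨a, b, hab⟩ := exists_pair_ne Ω
    obtain ⟨htr, hHall, hx⟩ := hshape G Ω W a b hab
    exact classification_of_centralizers W hab htr hHall (fun x hxD h1 => (hx x hxD h1).1)
      (fun x hxD h1 => (hx x hxD h1).2)

end CfsgLib.BenderWorld
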