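import Cfsg.Agent.BenderWorld.TwoTransitive.Full
import Cfsg.Agent.LocalStructure.Tools

/-!
# Route 8, slice D: `D` controls the fusion in `H` of its `q`-singular elements

Summary of the interface, for `h : Good G Ω q` (a world without configurations in which the cores of the locals with
four groups are centralised by involutions, `q` a prime dividing `m`):
`exists_sylow_pair`, `two_transitive`, `not_inverted`, `commute_of_fix`, `star`, `centralised`,
`exists_centralising_of_fix`, `fusion_pairStab`.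
-/

set_option autoImplicit false

namespace CfsgLib.BenderWorld

open CfsgLib.Small CfsgLib.SEmbed Subgroup

variable {G : Type*} [Group G] [Finite G] {Ω : Type*} [MulAction G Ω] {q : ℕ} [hq : Fact q.Prime]

/-- A `q`-group fixing three points is centralised by an involution at each point it fixes. -/
theorem Good.exists_invol_at (h : Good G Ω q) {Q : Subgroup G} (hQ : IsPGroup q Q) (hne : Q ≠ ⊥)
    {a b c : Ω} (ha : a ∈ fixSet (Ω := Ω) Q) (hb : b ∈ fixSet (Ω := Ω) Q) (hc : c ∈ fixSet (Ω := Ω) Q)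
    (hab : a ≠ b) (hac : a ≠ c) (hbc : b ≠ c) {p : Ω} (hp : p ∈ fixSet (Ω := Ω) Q) :
    ∃ v ∈ invMap (G := G) p p, ∀ r ∈ Q, Commute r v := by
  obtain ⟨u, huo, huc⟩ := h.exists_invol_of_three hQ ha hb hc hab hac hbc
  obtain ⟨e, he⟩ := h.world.uf.exists_fix u huo
  by_cases hep : e = p
  · exact ⟨u, ⟨huo, hep ▸ he⟩, huc⟩
  · exact (h.star hep ⟨huo, he⟩ hQ (fun r hr => mem_pairStab.2
      ⟨commute_fix h.world.uf huo (huc r hr) he, hp r hr⟩)
      (fun r hr => mem_centralizer_singleton_iff.2 (huc r hr).eq) hne).2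

/-- An element of `D` of order divisible by `q` fixing a further point `b'` is centralised by a two-element
of the stabilizer of `a` moving `b` to `b'`. -/
theorem Good.exists_centralising_of_fix (h : Good G Ω q) {a b b' : Ω} (hab : a ≠ b) (hab' : a ≠ b')
    {x : G} (hx : x ∈ pairStab G a b) (hxb' : x • b' = b') (hdvd : q ∣ orderOf x) :
    ∃ s : G, (∃ i : ℕ, s ^ 2 ^ i = 1) ∧ s • a = a ∧ s • b = b' ∧ Commute s x := by
  by_cases hbb : b = b'
  · exact ⟨1, ⟨0, one_pow _⟩, one_smul _ _, by rw [one_smul, hbb], Commute.one_left x⟩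
  have hu := h.world.uf
  obtain ⟨hxa, hxb⟩ := mem_pairStab.1 hx
  set g := x ^ (orderOf x / q) with hg
  have hgo : orderOf g = q := by
    rw [hg, orderOf_pow_of_dvd (Nat.div_pos (Nat.le_of_dvd (orderOf_pos x) hdvd) hq.out.pos).ne'
      (Nat.div_dvd_of_dvd hdvd), Nat.div_div_self hdvd (orderOf_pos x).ne']
  have hQ : IsPGroup q (zpowers g) := IsPGroup.of_card (n := 1) (by rw [Nat.card_zpowers, hgo, pow_one])
  have hg1 : g ≠ 1 := fun e => by
    rw [e, orderOf_one] at hgo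
    exact hq.out.one_lt.ne hgo
  have hfix : ∀ p : Ω, x • p = p → p ∈ fixSet (Ω := Ω) (zpowers g) := fun p hp r hr =>
    (MulAction.mem_stabilizer_iff).1
      (zpowers_le.2 (pow_mem (show x ∈ MulAction.stabilizer G p from hp) _) hr)
  have hinv := fun {p : Ω} (hp : p ∈ fixSet (Ω := Ω) (zpowers g)) =>
    h.exists_invol_at hQ (zpowers_ne_bot.2 hg1) (hfix a hxa) (hfix b hxb) (hfix b' hxb') hab hab' hbb hp
  set M := centralizer ({g} : Set G) with hM
  have hmemM : ∀ v : G, (∀ r ∈ zpowers g, Commute r v) → v ∈ M := fun v hv =>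
    mem_centralizer_singleton_iff.2 (hv g (mem_zpowers g)).symm.eq
  have hxM : x ∈ M := mem_centralizer_singleton_iff.2 (Commute.self_pow x _).eq
  obtain ⟨t, ht, htg⟩ := hinv (hfix a hxa)
  obtain ⟨v, hv, hvg⟩ := hinv (hfix b hxb)
  obtain ⟨v', hv', hv'g⟩ := hinv (hfix b' hxb')
  obtain ⟨⟨V, hV, hVa, hVg⟩, -⟩ := h.centralised ht hQ
    (fun r hr => mem_centralizer_singleton_iff.2 (htg r hr).eq) (zpowers_ne_bot.2 hg1)
  have hVM : V ≤ M := fun r hr => hmemM r fun y hy => mem_centralizer_iff.1 (hVg hr) y hy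
  have hMtop : M ≠ ⊤ := fun htop => by
    haveI := h.world.simple
    haveI : (zpowers g).Normal := ⟨fun y hy k => by
      obtain ⟨n, rfl⟩ := mem_zpowers_iff.1 hy
      have h1 : Commute k g := mem_centralizer_singleton_iff.1 (show k ∈ M from htop ▸ mem_top k)
      rw [(h1.zpow_right n).eq, mul_inv_cancel_right]
      exact ⟨n, rfl⟩⟩
    rcases IsSimpleGroup.eq_bot_or_eq_top_of_normal (zpowers g) inferInstance with h0 | h0
    · exact hg1 (zpowers_eq_bot.1 h0)
    · have h2 := Subgroup.orderOf_dvd_natCard _ (show t ∈ zpowers g from h0 ▸ mem_top t)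
      rw [ht.1] at h2
      exact (h.odd_card hQ).not_two_dvd_nat h2
  -- both in a subgroup `L` with a four group at `a`: a moving involution conjugate of `t`
  have hmove : ∀ L : Subgroup G, t ∈ L → ∀ p : Ω, a ≠ p → ∀ s ∈ invMap (G := G) p p, s ∈ L →
      ∃ m ∈ L, m • a = p := by
    intro L htL p hap s hs hsL
    obtain ⟨m, hm, hms⟩ := exists_conj_in hu htL hsL ht.1 hs.1 ht.2 hs.2 hap
    exact ⟨m, hm, hu.unique s hs.1 _ _ (by rw [← hms, mul_smul, mul_smul, inv_smul_smul, ht.2]) hs.2⟩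
  have hR1 : ∀ L : Subgroup G, V ≤ L → t ∈ L → ∀ m ∈ L, m • a ≠ a → ¬ IsR1 L := by
    intro L hVL htL m hm hma h1
    obtain ⟨o, ho, c, -, hc, hmoc⟩ := h1 t htL ht.1 m hm
    have hO : coreIn L ≤ MulAction.stabilizer G a := by
      refine le_stabilizer_of_normal_odd hu (N := coreIn L) ?_ ?_ hV hVa hVL
      · intro y hy
        exact le_normalizer_map L.subtype ⟨⟨y, hy⟩, by rw [normalizer_eq_top]; exact mem_top _, rfl⟩
      · rw [coreIn, card_map_of_injective L.subtype_injective]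
        exact CfsgLib.TwoGroups.odd_card_oddCore
    refine hma ?_
    rw [hmoc, mul_smul, commute_fix hu ht.1 hc ht.2]
    exact hO ho
  obtain ⟨m, hm, hma⟩ := hmove M (hmemM t htg) b hab v hv (hmemM v hvg)
  have hmov : m • a ≠ a := fun e => hab (e.symm.trans hma)
  have hM2 : IsR2 M a := (h.world.ih M hMtop a ⟨t, hmemM t htg, ht.1, ht.2⟩ ⟨m, hm, hmov⟩).resolve_left
    (hR1 M hVM (hmemM t htg) m hm hmov)
  set O := coreIn M with hO
  have hOM : O ≤ M := map_subtype_le _
  have hOnorm : ∀ k ∈ M, ∀ o ∈ O, k * o * k⁻¹ ∈ O := by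
    rintro k hk _ ⟨o, ho, rfl⟩
    exact ⟨⟨k, hk⟩ * o * ⟨k, hk⟩⁻¹, (inferInstance : (Cfsg.oddCore M).Normal).conj_mem o ho _, rfl⟩
  -- the involutions of `M` at the points fixed by `g` centralise `O`
  have hOcomm : ∀ p : Ω, ∀ s ∈ invMap (G := G) p p, s ∈ M → ∀ o ∈ O, Commute o s := by
    intro p s hs hsM o ho
    by_cases hpa : a = p
    · exact h.core M hMtop a hM2 s hsM (hpa ▸ hs) o ho
    · obtain ⟨k, hk, hks⟩ := exists_conj_in hu (hmemM t htg) hsM ht.1 hs.1 ht.2 hs.2 hpa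
      have h1 := h.core M hMtop a hM2 t (hmemM t htg) ht _ (hOnorm k⁻¹ (inv_mem hk) o ho)
      rw [inv_inv] at h1
      show o * s = s * o
      rw [← hks]
      calc o * (k * t * k⁻¹) = k * ((k⁻¹ * o * k) * t) * k⁻¹ := by group
        _ = _ := by rw [h1.eq]; group
  -- so they generate, with the four group, a local with a transitive two-closed subgroup
  set C := M ⊓ centralizer (O : Set G) with hC
  have hinC : ∀ p : Ω, ∀ s ∈ invMap (G := G) p p, s ∈ M → s ∈ C := fun p s hs hsM =>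
    ⟨hsM, mem_centralizer_iff.2 fun o ho => (hOcomm p s hs hsM o ho).eq⟩
  have hVC : V ≤ C := fun r hr => by
    by_cases hr1 : r = 1
    · rw [hr1]; exact one_mem _
    · exact hinC a r ⟨hV.orderOf_eq_two hr hr1, hVa r hr⟩ (hVM hr)
  have htC : t ∈ C := hinC a t ht (hmemM t htg)
  have hCtop : C ≠ ⊤ := fun e => hMtop (top_le_iff.1 (e.ge.trans inf_le_left))
  obtain ⟨m₁, hm₁, hm₁a⟩ := hmove C htC b hab v hv (hinC b v hv (hmemM v hvg))
  have hmov₁ : m₁ • a ≠ a := fun e => hab (e.symm.trans hm₁a)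
  obtain ⟨m₂, hm₂, hm₂a⟩ := hmove C htC b' hab' v' hv' (hinC b' v' hv' (hmemM v' hv'g))
  have hC2 : IsR2 C a := (h.world.ih C hCtop a ⟨t, htC, ht.1, ht.2⟩ ⟨m₁, hm₁, hmov₁⟩).resolve_left
    (hR1 C hVC htC m₁ hm₁ hmov₁)
  obtain ⟨U', -, hU'C, -, hU'2, -, hU'tr, -⟩ := hC2.twoClosed
  obtain ⟨u, huU', hub⟩ := hU'tr b ⟨⟨m₁, hm₁⟩, hm₁a⟩ b' ⟨⟨m₂, hm₂⟩, hm₂a⟩ hab.symm hab'.symm
  have hua : u • a = a := (hU'C huU').2
  have huM : u ∈ M := (hU'C huU').1.1
  have huO : ∀ o ∈ O, o * u = u * o := mem_centralizer_iff.1 (hU'C huU').1.2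
  obtain ⟨U, hOU, hUM, hUn, hU2, hUc, -, -⟩ := hM2.twoClosed
  obtain ⟨n, hn⟩ := hU'2 u huU'
  have hCM : coreIn C ≤ O := by
    haveI : (C.subgroupOf M).Normal := by
      refine (normal_subgroupOf_iff_le_normalizer inf_le_left).2 fun k hk => ?_
      refine inf_normalizer_le_normalizer_inf ⟨le_normalizer hk, ?_⟩
      have h1 : k ∈ normalizer (O : Set G) :=
        le_normalizer_map M.subtype ⟨⟨k, hk⟩, by rw [normalizer_eq_top]; exact mem_top _, rfl⟩
      exact (normal_subgroupOf_iff_le_normalizer (centralizer_le_normalizer _)).1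
        (normal_subgroupOf_centralizer_normalizer (O : Set G)) h1
    -- the odd core of a normal subgroup lies in the odd core
    have hle : ((Cfsg.oddCore C).map (C.subtype)).subgroupOf M ≤ Cfsg.oddCore M := by
      haveI : (((Cfsg.oddCore C).map C.subtype).subgroupOf M).Normal := by
        refine (normal_subgroupOf_iff_le_normalizer ((map_subtype_le _).trans inf_le_left)).2 fun k hk => ?_
        have hkC : k ∈ normalizer (C : Set G) :=
          (normal_subgroupOf_iff_le_normalizer inf_le_left).1 inferInstance hk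
        refine CfsgLib.LocalStructure.mem_normalizer_of_forall ?_
        rintro _ ⟨o, ho, rfl⟩
        let φ : C ≃* C :=
          { toFun := fun y => ⟨k * y * k⁻¹, (mem_normalizer_iff.1 hkC y).1 y.2⟩
            invFun := fun y => ⟨k⁻¹ * y * k, (mem_normalizer_iff''.1 hkC y).1 y.2⟩
            left_inv := fun y => by ext; simp [mul_assoc]
            right_inv := fun y => by ext; simp [mul_assoc]
            map_mul' := fun y z => by ext; simp [mul_assoc] }
        refine ⟨φ o, ?_, rfl⟩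
        exact (CfsgLib.PLocal.map_pPrimeCore_equiv (p := 2) φ).le ⟨o, ho, rfl⟩
      refine CfsgLib.PLocal.le_pPrimeCore ?_
      rw [Nat.card_congr (subgroupOfEquivOfLe ((map_subtype_le _).trans inf_le_left)).toEquiv,
        card_map_of_injective C.subtype_injective]
      exact Nat.coprime_two_right.2 CfsgLib.TwoGroups.odd_card_oddCore
    intro o ho
    exact ⟨⟨o, (map_subtype_le _ ho : o ∈ C).1⟩, hle ho, rfl⟩
  have huU : u ∈ U := hUc u ⟨huM, hua⟩ n (hCM hn)
  have hOb : ∀ o ∈ O, o • b = b := fun o ho => by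
    rw [← hma]; exact hM2.core_fix o ho m hm
  -- the two-part of `u`
  obtain ⟨i, r, hr, hir⟩ :=
    Nat.exists_eq_pow_mul_and_not_dvd (orderOf_pos u).ne' 2 (by norm_num)
  obtain ⟨j, hj⟩ : ∃ j : ℕ, r * j ≡ 1 [MOD 2 ^ n] := by
    have hcop : r.Coprime (2 ^ n) :=
      (((Nat.Prime.coprime_iff_not_dvd Nat.prime_two).2 hr).symm).pow_right n
    obtain ⟨y, hy0, hy1⟩ := Nat.chineseRemainder hcop 0 1
    obtain ⟨j, rfl⟩ := Nat.modEq_zero_iff_dvd.1 hy0
    exact ⟨j, hy1⟩
  set s := u ^ (r * j) with hs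
  have hs2 : s ^ 2 ^ i = 1 := by
    rw [hs, ← pow_mul, show r * j * 2 ^ i = orderOf u * j by rw [hir]; ring, pow_mul,
      pow_orderOf_eq_one, one_pow]
  have hfixn : ∀ k : ℕ, u ^ (2 ^ n * k) • b = b := fun k => by
    rw [pow_mul]; exact hOb _ (pow_mem (hCM hn) k)
  have hsb : s • b = b' := by
    rw [hs, ← Nat.mod_add_div (r * j) (2 ^ n), pow_add, mul_smul, hfixn]
    rcases Nat.eq_zero_or_pos n with hn0 | hn0
    · -- then `u` lies in the core
      subst hn0
      have h1 : u • b = b := by simpa using hfixn 1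
      exact absurd (h1.symm.trans hub) hbb
    · rw [show r * j % 2 ^ n = 1 % 2 ^ n from hj, Nat.one_mod_eq_one.2 (by
        have := Nat.one_lt_pow hn0.ne' (show 1 < 2 by norm_num); omega), pow_one, hub]
  have hsa : s • a = a :=
    (MulAction.mem_stabilizer_iff).1 (pow_mem (show u ∈ MulAction.stabilizer G a from hua) _)
  refine ⟨s, ⟨i, hs2⟩, hsa, hsb, ?_⟩
  have hsU : s ∈ U := pow_mem huU _
  have hsM : s ∈ M := pow_mem huM _
  have hsO : ∀ o ∈ O, Commute s o := fun o ho => (show Commute u o from (huO o ho).symm).pow_left _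
  -- `x s x⁻¹ = s o` with `o` in the core
  set o := s⁻¹ * (x * s * x⁻¹) with ho
  have hoU : o ∈ U := mul_mem (inv_mem hsU) (hUn x ⟨hxM, hxa⟩ s hsU)
  have hoD : o ∈ pairStab G a b := mem_pairStab.2 ⟨by
    rw [ho, mul_smul, mul_smul, mul_smul, inv_smul_eq_iff.2 hxa.symm, hsa, hxa, inv_smul_eq_iff, hsa], by
    rw [ho, mul_smul, mul_smul, mul_smul, inv_smul_eq_iff.2 hxb.symm, hsb, hxb', inv_smul_eq_iff, hsb]⟩
  have hoO : o ∈ O := by
    obtain ⟨k, hk⟩ := hU2 o hoU
    obtain ⟨l, hl⟩ := exists_pow_eq_self_of_coprime (x := o) (n := 2 ^ k)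
      ((Nat.coprime_two_left.2 (Odd.of_dvd_nat (odd_pairStab hu hab)
        (Subgroup.orderOf_dvd_natCard _ hoD))).pow_left _)
    exact hl ▸ pow_mem hk l
  have ho1 : o = 1 := by
    have h1 : (s * o) ^ 2 ^ i = 1 := by
      rw [ho, mul_inv_cancel_left, conj_pow, hs2]; simp
    rw [(hsO o hoO).mul_pow, hs2, one_mul] at h1
    exact orderOf_eq_one_iff.1 (Nat.eq_one_of_dvd_coprimes
      ((Nat.coprime_two_left.2 (odd_pairStab hu hab)).pow_left i) (orderOf_dvd_of_pow_eq_one h1)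
      (Subgroup.orderOf_dvd_natCard _ hoD))
  have h2 : s = x * s * x⁻¹ := inv_mul_eq_one.1 (ho ▸ ho1)
  show s * x = x * s
  calc s * x = x * s * x⁻¹ * x := by rw [← h2]
    _ = x * s := by group

/-- **`D` controls the fusion in `H` of its `q`-singular elements.** -/
theorem Good.fusion_pairStab (h : Good G Ω q) {a b : Ω} (hab : a ≠ b) {x : G} (hx : x ∈ pairStab G a b)
    (hdvd : q ∣ orderOf x) {k : G} (hk : k • a = a) (hkx : k * x * k⁻¹ ∈ pairStab G a b) :
    ∃ d ∈ pairStab G a b, d * x * d⁻¹ = k * x * k⁻¹ := by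
  have hb' : x • (k⁻¹ • b) = k⁻¹ • b := by
    have h1 := (mem_pairStab.1 hkx).2
    rw [mul_smul, mul_smul] at h1
    exact eq_inv_smul_iff.2 h1
  have hne : a ≠ k⁻¹ • b := fun e => hab (by
    have h1 := (smul_inv_smul k b).symm
    rw [← e, hk] at h1
    exact h1.symm)
  obtain ⟨s, -, hsa, hsb, hsx⟩ := h.exists_centralising_of_fix hab hne hx hb' hdvd
  refine ⟨k * s, mem_pairStab.2 ⟨by rw [mul_smul, hsa, hk], by rw [mul_smul, hsb, smul_inv_smul]⟩, ?_⟩
  calc k * s * x * (k * s)⁻¹ = k * (s * x) * s⁻¹ * k⁻¹ := by group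
    _ = k * x * k⁻¹ := by rw [hsx.eq]; group

/-- The centralizer in `H` of a `q`-singular element of `D` is `C_D(x)` times two-elements. -/
theorem Good.centralizer_decomp (h : Good G Ω q) {a b : Ω} (hab : a ≠ b) {x : G}
    (hx : x ∈ pairStab G a b) (hdvd : q ∣ orderOf x) {k : G} (hk : k • a = a) (hkx : Commute k x) :
    ∃ s d : G, (∃ i : ℕ, s ^ 2 ^ i = 1) ∧ s • a = a ∧ Commute s x ∧ d ∈ pairStab G a b ∧ Commute d x ∧
      k = s * d := by
  have hb' : x • (k • b) = k • b := by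
    rw [smul_smul, ← hkx.eq, mul_smul, (mem_pairStab.1 hx).2]
  have hne : a ≠ k • b := fun e => hab (smul_left_cancel k (hk.trans e))
  obtain ⟨s, hs2, hsa, hsb, hsx⟩ := h.exists_centralising_of_fix hab hne hx hb' hdvd
  refine ⟨s, s⁻¹ * k, hs2, hsa, hsx, mem_pairStab.2 ⟨?_, ?_⟩, hsx.inv_left.mul_left hkx,
    (mul_inv_cancel_left s k).symm⟩
  · rw [mul_smul, hk, inv_smul_eq_iff, hsa]
  · rw [mul_smul, inv_smul_eq_iff, hsb]

end CfsgLib.BenderWorld
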